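import Cfsg.Agent.Lib.Spor.J4.FactsRange
import Cfsg.Agent.Lib.Spor.J4.MAData

/-!
Checking facts of the certificate (generated).
-/

set_option linter.all false

namespace CfsgLib.Spor.J4.MA

open CfsgLib.PresCert

theorem seg_0 : Cert.FactSeg cert 0 150 just0 :=
  ⟨by decide +kernel, by decide +kernel⟩

theorem seg_1 : Cert.FactSeg cert 150 300 just1 :=
  ⟨by decide +kernel, by decide +kernel⟩

theorem seg_2 : Cert.FactSeg cert 300 450 just2 :=
  ⟨by decide +kernel, by decide +kernel⟩

theorem seg_3 : Cert.FactSeg cert 450 600 just3 :=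
  ⟨by decide +kernel, by decide +kernel⟩

theorem seg_4 : Cert.FactSeg cert 600 750 just4 :=
  ⟨by decide +kernel, by decide +kernel⟩

theorem seg_5 : Cert.FactSeg cert 750 900 just5 :=
  ⟨by decide +kernel, by decide +kernel⟩

theorem seg_6 : Cert.FactSeg cert 900 1050 just6 :=
  ⟨by decide +kernel, by decide +kernel⟩

theorem seg_7 : Cert.FactSeg cert 1050 1200 just7 :=
  ⟨by decide +kernel, by decide +kernel⟩

theorem seg_8 : Cert.FactSeg cert 1200 1350 just8 :=
  ⟨by decide +kernel, by decide +kernel⟩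

theorem seg_9 : Cert.FactSeg cert 1350 1500 just9 :=
  ⟨by decide +kernel, by decide +kernel⟩

theorem seg_10 : Cert.FactSeg cert 1500 1650 just10 :=
  ⟨by decide +kernel, by decide +kernel⟩

theorem seg_11 : Cert.FactSeg cert 1650 1800 just11 :=
  ⟨by decide +kernel, by decide +kernel⟩

end CfsgLib.Spor.J4.MA
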