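import Cfsg.Agent.Lib.Spor.J4.FactsRange
import Cfsg.Agent.Lib.Spor.J4.MAData

/-!
Checking facts of the certificate (generated).
-/

set_option linter.all false

namespace CfsgLib.Spor.J4.MA

open CfsgLib.PresCert

theorem seg_12 : Cert.FactSeg cert 1800 1950 just12 :=
  ⟨by decide +kernel, by decide +kernel⟩

theorem seg_13 : Cert.FactSeg cert 1950 2100 just13 :=
  ⟨by decide +kernel, by decide +kernel⟩

theorem seg_14 : Cert.FactSeg cert 2100 2250 just14 :=
  ⟨by decide +kernel, by decide +kernel⟩

theorem seg_15 : Cert.FactSeg cert 2250 2400 just15 :=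
  ⟨by decide +kernel, by decide +kernel⟩

theorem seg_16 : Cert.FactSeg cert 2400 2550 just16 :=
  ⟨by decide +kernel, by decide +kernel⟩

theorem seg_17 : Cert.FactSeg cert 2550 2700 just17 :=
  ⟨by decide +kernel, by decide +kernel⟩

theorem seg_18 : Cert.FactSeg cert 2700 2850 just18 :=
  ⟨by decide +kernel, by decide +kernel⟩

theorem seg_19 : Cert.FactSeg cert 2850 3000 just19 :=
  ⟨by decide +kernel, by decide +kernel⟩

theorem seg_20 : Cert.FactSeg cert 3000 3150 just20 :=
  ⟨by decide +kernel, by decide +kernel⟩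

theorem seg_21 : Cert.FactSeg cert 3150 3300 just21 :=
  ⟨by decide +kernel, by decide +kernel⟩

theorem seg_22 : Cert.FactSeg cert 3300 3450 just22 :=
  ⟨by decide +kernel, by decide +kernel⟩

theorem seg_23 : Cert.FactSeg cert 3450 3600 just23 :=
  ⟨by decide +kernel, by decide +kernel⟩

end CfsgLib.Spor.J4.MA
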