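import Cfsg.Agent.Lib.Spor.J4.FactsRange
import Cfsg.Agent.Lib.Spor.J4.MAData

/-!
Checking facts of the certificate (generated).
-/

set_option linter.all false

namespace CfsgLib.Spor.J4.MA

open CfsgLib.PresCert

theorem seg_120 : Cert.FactSeg cert 18000 18150 just120 :=
  ⟨by decide +kernel, by decide +kernel⟩

theorem seg_121 : Cert.FactSeg cert 18150 18300 just121 :=
  ⟨by decide +kernel, by decide +kernel⟩

theorem seg_122 : Cert.FactSeg cert 18300 18450 just122 :=
  ⟨by decide +kernel, by decide +kernel⟩

theorem seg_123 : Cert.FactSeg cert 18450 18600 just123 :=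
  ⟨by decide +kernel, by decide +kernel⟩

theorem seg_124 : Cert.FactSeg cert 18600 18750 just124 :=
  ⟨by decide +kernel, by decide +kernel⟩

theorem seg_125 : Cert.FactSeg cert 18750 18900 just125 :=
  ⟨by decide +kernel, by decide +kernel⟩

theorem seg_126 : Cert.FactSeg cert 18900 19050 just126 :=
  ⟨by decide +kernel, by decide +kernel⟩

theorem seg_127 : Cert.FactSeg cert 19050 19200 just127 :=
  ⟨by decide +kernel, by decide +kernel⟩

theorem seg_128 : Cert.FactSeg cert 19200 19350 just128 :=
  ⟨by decide +kernel, by decide +kernel⟩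

theorem seg_129 : Cert.FactSeg cert 19350 19500 just129 :=
  ⟨by decide +kernel, by decide +kernel⟩

theorem seg_130 : Cert.FactSeg cert 19500 19650 just130 :=
  ⟨by decide +kernel, by decide +kernel⟩

theorem seg_131 : Cert.FactSeg cert 19650 19800 just131 :=
  ⟨by decide +kernel, by decide +kernel⟩

end CfsgLib.Spor.J4.MA
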