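import Cfsg.Agent.Lib.Spor.J4.FactsRange
import Cfsg.Agent.Lib.Spor.J4.MAData

/-!
Checking facts of the certificate (generated).
-/

set_option linter.all false

namespace CfsgLib.Spor.J4.MA

open CfsgLib.PresCert

theorem seg_144 : Cert.FactSeg cert 21600 21750 just144 :=
  ⟨by decide +kernel, by decide +kernel⟩

theorem seg_145 : Cert.FactSeg cert 21750 21900 just145 :=
  ⟨by decide +kernel, by decide +kernel⟩

theorem seg_146 : Cert.FactSeg cert 21900 22050 just146 :=
  ⟨by decide +kernel, by decide +kernel⟩

theorem seg_147 : Cert.FactSeg cert 22050 22200 just147 :=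
  ⟨by decide +kernel, by decide +kernel⟩

theorem seg_148 : Cert.FactSeg cert 22200 22350 just148 :=
  ⟨by decide +kernel, by decide +kernel⟩

theorem seg_149 : Cert.FactSeg cert 22350 22500 just149 :=
  ⟨by decide +kernel, by decide +kernel⟩

theorem seg_150 : Cert.FactSeg cert 22500 22650 just150 :=
  ⟨by decide +kernel, by decide +kernel⟩

theorem seg_151 : Cert.FactSeg cert 22650 22800 just151 :=
  ⟨by decide +kernel, by decide +kernel⟩

theorem seg_152 : Cert.FactSeg cert 22800 22950 just152 :=
  ⟨by decide +kernel, by decide +kernel⟩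

theorem seg_153 : Cert.FactSeg cert 22950 23100 just153 :=
  ⟨by decide +kernel, by decide +kernel⟩

theorem seg_154 : Cert.FactSeg cert 23100 23250 just154 :=
  ⟨by decide +kernel, by decide +kernel⟩

theorem seg_155 : Cert.FactSeg cert 23250 23400 just155 :=
  ⟨by decide +kernel, by decide +kernel⟩

end CfsgLib.Spor.J4.MA
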