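import Cfsg.Agent.Lib.Spor.J4.FactsRange
import Cfsg.Agent.Lib.Spor.J4.MAData

/-!
Checking facts of the certificate (generated).
-/

set_option linter.all false

namespace CfsgLib.Spor.J4.MA

open CfsgLib.PresCert

theorem seg_192 : Cert.FactSeg cert 28800 28950 just192 :=
  ⟨by decide +kernel, by decide +kernel⟩

theorem seg_193 : Cert.FactSeg cert 28950 29100 just193 :=
  ⟨by decide +kernel, by decide +kernel⟩

theorem seg_194 : Cert.FactSeg cert 29100 29250 just194 :=
  ⟨by decide +kernel, by decide +kernel⟩

theorem seg_195 : Cert.FactSeg cert 29250 29400 just195 :=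
  ⟨by decide +kernel, by decide +kernel⟩

theorem seg_196 : Cert.FactSeg cert 29400 29550 just196 :=
  ⟨by decide +kernel, by decide +kernel⟩

theorem seg_197 : Cert.FactSeg cert 29550 29700 just197 :=
  ⟨by decide +kernel, by decide +kernel⟩

theorem seg_198 : Cert.FactSeg cert 29700 29850 just198 :=
  ⟨by decide +kernel, by decide +kernel⟩

theorem seg_199 : Cert.FactSeg cert 29850 30000 just199 :=
  ⟨by decide +kernel, by decide +kernel⟩

theorem seg_200 : Cert.FactSeg cert 30000 30150 just200 :=
  ⟨by decide +kernel, by decide +kernel⟩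

theorem seg_201 : Cert.FactSeg cert 30150 30300 just201 :=
  ⟨by decide +kernel, by decide +kernel⟩

theorem seg_202 : Cert.FactSeg cert 30300 30450 just202 :=
  ⟨by decide +kernel, by decide +kernel⟩

theorem seg_203 : Cert.FactSeg cert 30450 30600 just203 :=
  ⟨by decide +kernel, by decide +kernel⟩

end CfsgLib.Spor.J4.MA
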