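import Cfsg.Agent.Lib.Spor.J4.FactsRange
import Cfsg.Agent.Lib.Spor.J4.MAData

/-!
Checking facts of the certificate (generated).
-/

set_option linter.all false

namespace CfsgLib.Spor.J4.MA

open CfsgLib.PresCert

theorem seg_204 : Cert.FactSeg cert 30600 30750 just204 :=
  ⟨by decide +kernel, by decide +kernel⟩

theorem seg_205 : Cert.FactSeg cert 30750 30900 just205 :=
  ⟨by decide +kernel, by decide +kernel⟩

theorem seg_206 : Cert.FactSeg cert 30900 31050 just206 :=
  ⟨by decide +kernel, by decide +kernel⟩

theorem seg_207 : Cert.FactSeg cert 31050 31200 just207 :=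
  ⟨by decide +kernel, by decide +kernel⟩

theorem seg_208 : Cert.FactSeg cert 31200 31350 just208 :=
  ⟨by decide +kernel, by decide +kernel⟩

theorem seg_209 : Cert.FactSeg cert 31350 31500 just209 :=
  ⟨by decide +kernel, by decide +kernel⟩

theorem seg_210 : Cert.FactSeg cert 31500 31650 just210 :=
  ⟨by decide +kernel, by decide +kernel⟩

theorem seg_211 : Cert.FactSeg cert 31650 31800 just211 :=
  ⟨by decide +kernel, by decide +kernel⟩

theorem seg_212 : Cert.FactSeg cert 31800 31950 just212 :=
  ⟨by decide +kernel, by decide +kernel⟩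

theorem seg_213 : Cert.FactSeg cert 31950 32100 just213 :=
  ⟨by decide +kernel, by decide +kernel⟩

theorem seg_214 : Cert.FactSeg cert 32100 32250 just214 :=
  ⟨by decide +kernel, by decide +kernel⟩

theorem seg_215 : Cert.FactSeg cert 32250 32400 just215 :=
  ⟨by decide +kernel, by decide +kernel⟩

end CfsgLib.Spor.J4.MA
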