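import Cfsg.Agent.Lib.Spor.J4.FactsRange
import Cfsg.Agent.Lib.Spor.J4.MAData

/-!
Checking facts of the certificate (generated).
-/

set_option linter.all false

namespace CfsgLib.Spor.J4.MA

open CfsgLib.PresCert

theorem seg_216 : Cert.FactSeg cert 32400 32550 just216 :=
  ⟨by decide +kernel, by decide +kernel⟩

theorem seg_217 : Cert.FactSeg cert 32550 32700 just217 :=
  ⟨by decide +kernel, by decide +kernel⟩

theorem seg_218 : Cert.FactSeg cert 32700 32850 just218 :=
  ⟨by decide +kernel, by decide +kernel⟩

theorem seg_219 : Cert.FactSeg cert 32850 33000 just219 :=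
  ⟨by decide +kernel, by decide +kernel⟩

theorem seg_220 : Cert.FactSeg cert 33000 33150 just220 :=
  ⟨by decide +kernel, by decide +kernel⟩

theorem seg_221 : Cert.FactSeg cert 33150 33300 just221 :=
  ⟨by decide +kernel, by decide +kernel⟩

theorem seg_222 : Cert.FactSeg cert 33300 33450 just222 :=
  ⟨by decide +kernel, by decide +kernel⟩

theorem seg_223 : Cert.FactSeg cert 33450 33600 just223 :=
  ⟨by decide +kernel, by decide +kernel⟩

theorem seg_224 : Cert.FactSeg cert 33600 33750 just224 :=
  ⟨by decide +kernel, by decide +kernel⟩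

theorem seg_225 : Cert.FactSeg cert 33750 33900 just225 :=
  ⟨by decide +kernel, by decide +kernel⟩

theorem seg_226 : Cert.FactSeg cert 33900 34050 just226 :=
  ⟨by decide +kernel, by decide +kernel⟩

theorem seg_227 : Cert.FactSeg cert 34050 34200 just227 :=
  ⟨by decide +kernel, by decide +kernel⟩

end CfsgLib.Spor.J4.MA
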