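import Cfsg.Agent.Lib.Spor.J4.FactsRange
import Cfsg.Agent.Lib.Spor.J4.MAData

/-!
Checking facts of the certificate (generated).
-/

set_option linter.all false

namespace CfsgLib.Spor.J4.MA

open CfsgLib.PresCert

theorem seg_228 : Cert.FactSeg cert 34200 34350 just228 :=
  ⟨by decide +kernel, by decide +kernel⟩

theorem seg_229 : Cert.FactSeg cert 34350 34500 just229 :=
  ⟨by decide +kernel, by decide +kernel⟩

theorem seg_230 : Cert.FactSeg cert 34500 34650 just230 :=
  ⟨by decide +kernel, by decide +kernel⟩

theorem seg_231 : Cert.FactSeg cert 34650 34800 just231 :=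
  ⟨by decide +kernel, by decide +kernel⟩

theorem seg_232 : Cert.FactSeg cert 34800 34950 just232 :=
  ⟨by decide +kernel, by decide +kernel⟩

theorem seg_233 : Cert.FactSeg cert 34950 35100 just233 :=
  ⟨by decide +kernel, by decide +kernel⟩

theorem seg_234 : Cert.FactSeg cert 35100 35250 just234 :=
  ⟨by decide +kernel, by decide +kernel⟩

theorem seg_235 : Cert.FactSeg cert 35250 35400 just235 :=
  ⟨by decide +kernel, by decide +kernel⟩

theorem seg_236 : Cert.FactSeg cert 35400 35550 just236 :=
  ⟨by decide +kernel, by decide +kernel⟩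

theorem seg_237 : Cert.FactSeg cert 35550 35700 just237 :=
  ⟨by decide +kernel, by decide +kernel⟩

theorem seg_238 : Cert.FactSeg cert 35700 35850 just238 :=
  ⟨by decide +kernel, by decide +kernel⟩

theorem seg_239 : Cert.FactSeg cert 35850 36000 just239 :=
  ⟨by decide +kernel, by decide +kernel⟩

end CfsgLib.Spor.J4.MA
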