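import Cfsg.Agent.Lib.Spor.J4.FactsRange
import Cfsg.Agent.Lib.Spor.J4.MAData

/-!
Checking facts of the certificate (generated).
-/

set_option linter.all false

namespace CfsgLib.Spor.J4.MA

open CfsgLib.PresCert

theorem seg_24 : Cert.FactSeg cert 3600 3750 just24 :=
  ⟨by decide +kernel, by decide +kernel⟩

theorem seg_25 : Cert.FactSeg cert 3750 3900 just25 :=
  ⟨by decide +kernel, by decide +kernel⟩

theorem seg_26 : Cert.FactSeg cert 3900 4050 just26 :=
  ⟨by decide +kernel, by decide +kernel⟩

theorem seg_27 : Cert.FactSeg cert 4050 4200 just27 :=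
  ⟨by decide +kernel, by decide +kernel⟩

theorem seg_28 : Cert.FactSeg cert 4200 4350 just28 :=
  ⟨by decide +kernel, by decide +kernel⟩

theorem seg_29 : Cert.FactSeg cert 4350 4500 just29 :=
  ⟨by decide +kernel, by decide +kernel⟩

theorem seg_30 : Cert.FactSeg cert 4500 4650 just30 :=
  ⟨by decide +kernel, by decide +kernel⟩

theorem seg_31 : Cert.FactSeg cert 4650 4800 just31 :=
  ⟨by decide +kernel, by decide +kernel⟩

theorem seg_32 : Cert.FactSeg cert 4800 4950 just32 :=
  ⟨by decide +kernel, by decide +kernel⟩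

theorem seg_33 : Cert.FactSeg cert 4950 5100 just33 :=
  ⟨by decide +kernel, by decide +kernel⟩

theorem seg_34 : Cert.FactSeg cert 5100 5250 just34 :=
  ⟨by decide +kernel, by decide +kernel⟩

theorem seg_35 : Cert.FactSeg cert 5250 5400 just35 :=
  ⟨by decide +kernel, by decide +kernel⟩

end CfsgLib.Spor.J4.MA
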