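import Cfsg.Agent.Lib.Spor.J4.FactsRange
import Cfsg.Agent.Lib.Spor.J4.MAData

/-!
Checking facts of the certificate (generated).
-/

set_option linter.all false

namespace CfsgLib.Spor.J4.MA

open CfsgLib.PresCert

theorem seg_240 : Cert.FactSeg cert 36000 36150 just240 :=
  ⟨by decide +kernel, by decide +kernel⟩

theorem seg_241 : Cert.FactSeg cert 36150 36300 just241 :=
  ⟨by decide +kernel, by decide +kernel⟩

theorem seg_242 : Cert.FactSeg cert 36300 36450 just242 :=
  ⟨by decide +kernel, by decide +kernel⟩

theorem seg_243 : Cert.FactSeg cert 36450 36600 just243 :=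
  ⟨by decide +kernel, by decide +kernel⟩

theorem seg_244 : Cert.FactSeg cert 36600 36750 just244 :=
  ⟨by decide +kernel, by decide +kernel⟩

theorem seg_245 : Cert.FactSeg cert 36750 36900 just245 :=
  ⟨by decide +kernel, by decide +kernel⟩

theorem seg_246 : Cert.FactSeg cert 36900 37050 just246 :=
  ⟨by decide +kernel, by decide +kernel⟩

theorem seg_247 : Cert.FactSeg cert 37050 37200 just247 :=
  ⟨by decide +kernel, by decide +kernel⟩

theorem seg_248 : Cert.FactSeg cert 37200 37350 just248 :=
  ⟨by decide +kernel, by decide +kernel⟩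

theorem seg_249 : Cert.FactSeg cert 37350 37500 just249 :=
  ⟨by decide +kernel, by decide +kernel⟩

theorem seg_250 : Cert.FactSeg cert 37500 37650 just250 :=
  ⟨by decide +kernel, by decide +kernel⟩

theorem seg_251 : Cert.FactSeg cert 37650 37800 just251 :=
  ⟨by decide +kernel, by decide +kernel⟩

end CfsgLib.Spor.J4.MA
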