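import Cfsg.Agent.Lib.Spor.J4.FactsRange
import Cfsg.Agent.Lib.Spor.J4.MAData

/-!
Checking facts of the certificate (generated).
-/

set_option linter.all false

namespace CfsgLib.Spor.J4.MA

open CfsgLib.PresCert

theorem seg_252 : Cert.FactSeg cert 37800 37950 just252 :=
  ⟨by decide +kernel, by decide +kernel⟩

theorem seg_253 : Cert.FactSeg cert 37950 38100 just253 :=
  ⟨by decide +kernel, by decide +kernel⟩

theorem seg_254 : Cert.FactSeg cert 38100 38250 just254 :=
  ⟨by decide +kernel, by decide +kernel⟩

theorem seg_255 : Cert.FactSeg cert 38250 38400 just255 :=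
  ⟨by decide +kernel, by decide +kernel⟩

theorem seg_256 : Cert.FactSeg cert 38400 38550 just256 :=
  ⟨by decide +kernel, by decide +kernel⟩

theorem seg_257 : Cert.FactSeg cert 38550 38700 just257 :=
  ⟨by decide +kernel, by decide +kernel⟩

theorem seg_258 : Cert.FactSeg cert 38700 38850 just258 :=
  ⟨by decide +kernel, by decide +kernel⟩

theorem seg_259 : Cert.FactSeg cert 38850 39000 just259 :=
  ⟨by decide +kernel, by decide +kernel⟩

theorem seg_260 : Cert.FactSeg cert 39000 39150 just260 :=
  ⟨by decide +kernel, by decide +kernel⟩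

theorem seg_261 : Cert.FactSeg cert 39150 39300 just261 :=
  ⟨by decide +kernel, by decide +kernel⟩

theorem seg_262 : Cert.FactSeg cert 39300 39450 just262 :=
  ⟨by decide +kernel, by decide +kernel⟩

theorem seg_263 : Cert.FactSeg cert 39450 39600 just263 :=
  ⟨by decide +kernel, by decide +kernel⟩

end CfsgLib.Spor.J4.MA
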