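import Cfsg.Agent.Lib.Spor.J4.FactsRange
import Cfsg.Agent.Lib.Spor.J4.MAData

/-!
Checking facts of the certificate (generated).
-/

set_option linter.all false

namespace CfsgLib.Spor.J4.MA

open CfsgLib.PresCert

theorem seg_264 : Cert.FactSeg cert 39600 39750 just264 :=
  ⟨by decide +kernel, by decide +kernel⟩

theorem seg_265 : Cert.FactSeg cert 39750 39900 just265 :=
  ⟨by decide +kernel, by decide +kernel⟩

theorem seg_266 : Cert.FactSeg cert 39900 40050 just266 :=
  ⟨by decide +kernel, by decide +kernel⟩

theorem seg_267 : Cert.FactSeg cert 40050 40200 just267 :=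
  ⟨by decide +kernel, by decide +kernel⟩

theorem seg_268 : Cert.FactSeg cert 40200 40350 just268 :=
  ⟨by decide +kernel, by decide +kernel⟩

theorem seg_269 : Cert.FactSeg cert 40350 40500 just269 :=
  ⟨by decide +kernel, by decide +kernel⟩

theorem seg_270 : Cert.FactSeg cert 40500 40650 just270 :=
  ⟨by decide +kernel, by decide +kernel⟩

theorem seg_271 : Cert.FactSeg cert 40650 40800 just271 :=
  ⟨by decide +kernel, by decide +kernel⟩

theorem seg_272 : Cert.FactSeg cert 40800 40950 just272 :=
  ⟨by decide +kernel, by decide +kernel⟩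

theorem seg_273 : Cert.FactSeg cert 40950 41100 just273 :=
  ⟨by decide +kernel, by decide +kernel⟩

theorem seg_274 : Cert.FactSeg cert 41100 41250 just274 :=
  ⟨by decide +kernel, by decide +kernel⟩

theorem seg_275 : Cert.FactSeg cert 41250 41400 just275 :=
  ⟨by decide +kernel, by decide +kernel⟩

end CfsgLib.Spor.J4.MA
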