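import Cfsg.Agent.Lib.Spor.J4.FactsRange
import Cfsg.Agent.Lib.Spor.J4.MAData

/-!
Checking facts of the certificate (generated).
-/

set_option linter.all false

namespace CfsgLib.Spor.J4.MA

open CfsgLib.PresCert

theorem seg_276 : Cert.FactSeg cert 41400 41550 just276 :=
  ⟨by decide +kernel, by decide +kernel⟩

theorem seg_277 : Cert.FactSeg cert 41550 41700 just277 :=
  ⟨by decide +kernel, by decide +kernel⟩

theorem seg_278 : Cert.FactSeg cert 41700 41850 just278 :=
  ⟨by decide +kernel, by decide +kernel⟩

theorem seg_279 : Cert.FactSeg cert 41850 42000 just279 :=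
  ⟨by decide +kernel, by decide +kernel⟩

theorem seg_280 : Cert.FactSeg cert 42000 42150 just280 :=
  ⟨by decide +kernel, by decide +kernel⟩

theorem seg_281 : Cert.FactSeg cert 42150 42300 just281 :=
  ⟨by decide +kernel, by decide +kernel⟩

theorem seg_282 : Cert.FactSeg cert 42300 42450 just282 :=
  ⟨by decide +kernel, by decide +kernel⟩

theorem seg_283 : Cert.FactSeg cert 42450 42600 just283 :=
  ⟨by decide +kernel, by decide +kernel⟩

theorem seg_284 : Cert.FactSeg cert 42600 42750 just284 :=
  ⟨by decide +kernel, by decide +kernel⟩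

theorem seg_285 : Cert.FactSeg cert 42750 42900 just285 :=
  ⟨by decide +kernel, by decide +kernel⟩

theorem seg_286 : Cert.FactSeg cert 42900 43050 just286 :=
  ⟨by decide +kernel, by decide +kernel⟩

theorem seg_287 : Cert.FactSeg cert 43050 43200 just287 :=
  ⟨by decide +kernel, by decide +kernel⟩

end CfsgLib.Spor.J4.MA
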