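import Cfsg.Agent.Lib.Spor.J4.FactsRange
import Cfsg.Agent.Lib.Spor.J4.MAData

/-!
Checking facts of the certificate (generated).
-/

set_option linter.all false

namespace CfsgLib.Spor.J4.MA

open CfsgLib.PresCert

theorem seg_288 : Cert.FactSeg cert 43200 43350 just288 :=
  ⟨by decide +kernel, by decide +kernel⟩

theorem seg_289 : Cert.FactSeg cert 43350 43500 just289 :=
  ⟨by decide +kernel, by decide +kernel⟩

theorem seg_290 : Cert.FactSeg cert 43500 43650 just290 :=
  ⟨by decide +kernel, by decide +kernel⟩

theorem seg_291 : Cert.FactSeg cert 43650 43800 just291 :=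
  ⟨by decide +kernel, by decide +kernel⟩

theorem seg_292 : Cert.FactSeg cert 43800 43950 just292 :=
  ⟨by decide +kernel, by decide +kernel⟩

theorem seg_293 : Cert.FactSeg cert 43950 44100 just293 :=
  ⟨by decide +kernel, by decide +kernel⟩

theorem seg_294 : Cert.FactSeg cert 44100 44250 just294 :=
  ⟨by decide +kernel, by decide +kernel⟩

theorem seg_295 : Cert.FactSeg cert 44250 44400 just295 :=
  ⟨by decide +kernel, by decide +kernel⟩

theorem seg_296 : Cert.FactSeg cert 44400 44550 just296 :=
  ⟨by decide +kernel, by decide +kernel⟩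

theorem seg_297 : Cert.FactSeg cert 44550 44700 just297 :=
  ⟨by decide +kernel, by decide +kernel⟩

theorem seg_298 : Cert.FactSeg cert 44700 44850 just298 :=
  ⟨by decide +kernel, by decide +kernel⟩

theorem seg_299 : Cert.FactSeg cert 44850 45000 just299 :=
  ⟨by decide +kernel, by decide +kernel⟩

end CfsgLib.Spor.J4.MA
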