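import Cfsg.Agent.Lib.Spor.J4.FactsRange
import Cfsg.Agent.Lib.Spor.J4.MAData

/-!
Checking facts of the certificate (generated).
-/

set_option linter.all false

namespace CfsgLib.Spor.J4.MA

open CfsgLib.PresCert

theorem seg_300 : Cert.FactSeg cert 45000 45150 just300 :=
  ⟨by decide +kernel, by decide +kernel⟩

theorem seg_301 : Cert.FactSeg cert 45150 45300 just301 :=
  ⟨by decide +kernel, by decide +kernel⟩

theorem seg_302 : Cert.FactSeg cert 45300 45450 just302 :=
  ⟨by decide +kernel, by decide +kernel⟩

theorem seg_303 : Cert.FactSeg cert 45450 45600 just303 :=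
  ⟨by decide +kernel, by decide +kernel⟩

theorem seg_304 : Cert.FactSeg cert 45600 45750 just304 :=
  ⟨by decide +kernel, by decide +kernel⟩

theorem seg_305 : Cert.FactSeg cert 45750 45900 just305 :=
  ⟨by decide +kernel, by decide +kernel⟩

theorem seg_306 : Cert.FactSeg cert 45900 46050 just306 :=
  ⟨by decide +kernel, by decide +kernel⟩

theorem seg_307 : Cert.FactSeg cert 46050 46200 just307 :=
  ⟨by decide +kernel, by decide +kernel⟩

theorem seg_308 : Cert.FactSeg cert 46200 46350 just308 :=
  ⟨by decide +kernel, by decide +kernel⟩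

theorem seg_309 : Cert.FactSeg cert 46350 46500 just309 :=
  ⟨by decide +kernel, by decide +kernel⟩

theorem seg_310 : Cert.FactSeg cert 46500 46650 just310 :=
  ⟨by decide +kernel, by decide +kernel⟩

theorem seg_311 : Cert.FactSeg cert 46650 46800 just311 :=
  ⟨by decide +kernel, by decide +kernel⟩

end CfsgLib.Spor.J4.MA
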