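import Cfsg.Agent.Lib.Spor.J4.FactsRange
import Cfsg.Agent.Lib.Spor.J4.MAData

/-!
Checking facts of the certificate (generated).
-/

set_option linter.all false

namespace CfsgLib.Spor.J4.MA

open CfsgLib.PresCert

theorem seg_312 : Cert.FactSeg cert 46800 46950 just312 :=
  ⟨by decide +kernel, by decide +kernel⟩

theorem seg_313 : Cert.FactSeg cert 46950 47100 just313 :=
  ⟨by decide +kernel, by decide +kernel⟩

theorem seg_314 : Cert.FactSeg cert 47100 47250 just314 :=
  ⟨by decide +kernel, by decide +kernel⟩

theorem seg_315 : Cert.FactSeg cert 47250 47400 just315 :=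
  ⟨by decide +kernel, by decide +kernel⟩

theorem seg_316 : Cert.FactSeg cert 47400 47550 just316 :=
  ⟨by decide +kernel, by decide +kernel⟩

theorem seg_317 : Cert.FactSeg cert 47550 47700 just317 :=
  ⟨by decide +kernel, by decide +kernel⟩

theorem seg_318 : Cert.FactSeg cert 47700 47850 just318 :=
  ⟨by decide +kernel, by decide +kernel⟩

theorem seg_319 : Cert.FactSeg cert 47850 48000 just319 :=
  ⟨by decide +kernel, by decide +kernel⟩

theorem seg_320 : Cert.FactSeg cert 48000 48150 just320 :=
  ⟨by decide +kernel, by decide +kernel⟩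

theorem seg_321 : Cert.FactSeg cert 48150 48300 just321 :=
  ⟨by decide +kernel, by decide +kernel⟩

theorem seg_322 : Cert.FactSeg cert 48300 48450 just322 :=
  ⟨by decide +kernel, by decide +kernel⟩

theorem seg_323 : Cert.FactSeg cert 48450 48600 just323 :=
  ⟨by decide +kernel, by decide +kernel⟩

end CfsgLib.Spor.J4.MA
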