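import Cfsg.Agent.Lib.Spor.J4.FactsRange
import Cfsg.Agent.Lib.Spor.J4.MAData

/-!
Checking facts of the certificate (generated).
-/

set_option linter.all false

namespace CfsgLib.Spor.J4.MA

open CfsgLib.PresCert

theorem seg_324 : Cert.FactSeg cert 48600 48750 just324 :=
  ⟨by decide +kernel, by decide +kernel⟩

theorem seg_325 : Cert.FactSeg cert 48750 48900 just325 :=
  ⟨by decide +kernel, by decide +kernel⟩

theorem seg_326 : Cert.FactSeg cert 48900 49050 just326 :=
  ⟨by decide +kernel, by decide +kernel⟩

theorem seg_327 : Cert.FactSeg cert 49050 49200 just327 :=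
  ⟨by decide +kernel, by decide +kernel⟩

theorem seg_328 : Cert.FactSeg cert 49200 49350 just328 :=
  ⟨by decide +kernel, by decide +kernel⟩

theorem seg_329 : Cert.FactSeg cert 49350 49500 just329 :=
  ⟨by decide +kernel, by decide +kernel⟩

theorem seg_330 : Cert.FactSeg cert 49500 49650 just330 :=
  ⟨by decide +kernel, by decide +kernel⟩

theorem seg_331 : Cert.FactSeg cert 49650 49800 just331 :=
  ⟨by decide +kernel, by decide +kernel⟩

theorem seg_332 : Cert.FactSeg cert 49800 49950 just332 :=
  ⟨by decide +kernel, by decide +kernel⟩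

theorem seg_333 : Cert.FactSeg cert 49950 50100 just333 :=
  ⟨by decide +kernel, by decide +kernel⟩

theorem seg_334 : Cert.FactSeg cert 50100 50162 just334 :=
  ⟨by decide +kernel, by decide +kernel⟩

end CfsgLib.Spor.J4.MA
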