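import Cfsg.Agent.Lib.Spor.J4.FactsRange
import Cfsg.Agent.Lib.Spor.J4.MAData

/-!
Checking facts of the certificate (generated).
-/

set_option linter.all false

namespace CfsgLib.Spor.J4.MA

open CfsgLib.PresCert

theorem seg_36 : Cert.FactSeg cert 5400 5550 just36 :=
  ⟨by decide +kernel, by decide +kernel⟩

theorem seg_37 : Cert.FactSeg cert 5550 5700 just37 :=
  ⟨by decide +kernel, by decide +kernel⟩

theorem seg_38 : Cert.FactSeg cert 5700 5850 just38 :=
  ⟨by decide +kernel, by decide +kernel⟩

theorem seg_39 : Cert.FactSeg cert 5850 6000 just39 :=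
  ⟨by decide +kernel, by decide +kernel⟩

theorem seg_40 : Cert.FactSeg cert 6000 6150 just40 :=
  ⟨by decide +kernel, by decide +kernel⟩

theorem seg_41 : Cert.FactSeg cert 6150 6300 just41 :=
  ⟨by decide +kernel, by decide +kernel⟩

theorem seg_42 : Cert.FactSeg cert 6300 6450 just42 :=
  ⟨by decide +kernel, by decide +kernel⟩

theorem seg_43 : Cert.FactSeg cert 6450 6600 just43 :=
  ⟨by decide +kernel, by decide +kernel⟩

theorem seg_44 : Cert.FactSeg cert 6600 6750 just44 :=
  ⟨by decide +kernel, by decide +kernel⟩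

theorem seg_45 : Cert.FactSeg cert 6750 6900 just45 :=
  ⟨by decide +kernel, by decide +kernel⟩

theorem seg_46 : Cert.FactSeg cert 6900 7050 just46 :=
  ⟨by decide +kernel, by decide +kernel⟩

theorem seg_47 : Cert.FactSeg cert 7050 7200 just47 :=
  ⟨by decide +kernel, by decide +kernel⟩

end CfsgLib.Spor.J4.MA
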