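import Cfsg.Agent.Lib.Spor.J4.FactsRange
import Cfsg.Agent.Lib.Spor.J4.MAData

/-!
Checking facts of the certificate (generated).
-/

set_option linter.all false

namespace CfsgLib.Spor.J4.MA

open CfsgLib.PresCert

theorem seg_48 : Cert.FactSeg cert 7200 7350 just48 :=
  ⟨by decide +kernel, by decide +kernel⟩

theorem seg_49 : Cert.FactSeg cert 7350 7500 just49 :=
  ⟨by decide +kernel, by decide +kernel⟩

theorem seg_50 : Cert.FactSeg cert 7500 7650 just50 :=
  ⟨by decide +kernel, by decide +kernel⟩

theorem seg_51 : Cert.FactSeg cert 7650 7800 just51 :=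
  ⟨by decide +kernel, by decide +kernel⟩

theorem seg_52 : Cert.FactSeg cert 7800 7950 just52 :=
  ⟨by decide +kernel, by decide +kernel⟩

theorem seg_53 : Cert.FactSeg cert 7950 8100 just53 :=
  ⟨by decide +kernel, by decide +kernel⟩

theorem seg_54 : Cert.FactSeg cert 8100 8250 just54 :=
  ⟨by decide +kernel, by decide +kernel⟩

theorem seg_55 : Cert.FactSeg cert 8250 8400 just55 :=
  ⟨by decide +kernel, by decide +kernel⟩

theorem seg_56 : Cert.FactSeg cert 8400 8550 just56 :=
  ⟨by decide +kernel, by decide +kernel⟩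

theorem seg_57 : Cert.FactSeg cert 8550 8700 just57 :=
  ⟨by decide +kernel, by decide +kernel⟩

theorem seg_58 : Cert.FactSeg cert 8700 8850 just58 :=
  ⟨by decide +kernel, by decide +kernel⟩

theorem seg_59 : Cert.FactSeg cert 8850 9000 just59 :=
  ⟨by decide +kernel, by decide +kernel⟩

end CfsgLib.Spor.J4.MA
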