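import Cfsg.Agent.Lib.Spor.J4.FactsRange
import Cfsg.Agent.Lib.Spor.J4.MAData

/-!
Checking facts of the certificate (generated).
-/

set_option linter.all false

namespace CfsgLib.Spor.J4.MA

open CfsgLib.PresCert

theorem seg_60 : Cert.FactSeg cert 9000 9150 just60 :=
  ⟨by decide +kernel, by decide +kernel⟩

theorem seg_61 : Cert.FactSeg cert 9150 9300 just61 :=
  ⟨by decide +kernel, by decide +kernel⟩

theorem seg_62 : Cert.FactSeg cert 9300 9450 just62 :=
  ⟨by decide +kernel, by decide +kernel⟩

theorem seg_63 : Cert.FactSeg cert 9450 9600 just63 :=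
  ⟨by decide +kernel, by decide +kernel⟩

theorem seg_64 : Cert.FactSeg cert 9600 9750 just64 :=
  ⟨by decide +kernel, by decide +kernel⟩

theorem seg_65 : Cert.FactSeg cert 9750 9900 just65 :=
  ⟨by decide +kernel, by decide +kernel⟩

theorem seg_66 : Cert.FactSeg cert 9900 10050 just66 :=
  ⟨by decide +kernel, by decide +kernel⟩

theorem seg_67 : Cert.FactSeg cert 10050 10200 just67 :=
  ⟨by decide +kernel, by decide +kernel⟩

theorem seg_68 : Cert.FactSeg cert 10200 10350 just68 :=
  ⟨by decide +kernel, by decide +kernel⟩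

theorem seg_69 : Cert.FactSeg cert 10350 10500 just69 :=
  ⟨by decide +kernel, by decide +kernel⟩

theorem seg_70 : Cert.FactSeg cert 10500 10650 just70 :=
  ⟨by decide +kernel, by decide +kernel⟩

theorem seg_71 : Cert.FactSeg cert 10650 10800 just71 :=
  ⟨by decide +kernel, by decide +kernel⟩

end CfsgLib.Spor.J4.MA
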