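import Cfsg.Agent.Lib.Spor.J4.FactsRange
import Cfsg.Agent.Lib.Spor.J4.MAData

/-!
Checking facts of the certificate (generated).
-/

set_option linter.all false

namespace CfsgLib.Spor.J4.MA

open CfsgLib.PresCert

theorem seg_72 : Cert.FactSeg cert 10800 10950 just72 :=
  ⟨by decide +kernel, by decide +kernel⟩

theorem seg_73 : Cert.FactSeg cert 10950 11100 just73 :=
  ⟨by decide +kernel, by decide +kernel⟩

theorem seg_74 : Cert.FactSeg cert 11100 11250 just74 :=
  ⟨by decide +kernel, by decide +kernel⟩

theorem seg_75 : Cert.FactSeg cert 11250 11400 just75 :=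
  ⟨by decide +kernel, by decide +kernel⟩

theorem seg_76 : Cert.FactSeg cert 11400 11550 just76 :=
  ⟨by decide +kernel, by decide +kernel⟩

theorem seg_77 : Cert.FactSeg cert 11550 11700 just77 :=
  ⟨by decide +kernel, by decide +kernel⟩

theorem seg_78 : Cert.FactSeg cert 11700 11850 just78 :=
  ⟨by decide +kernel, by decide +kernel⟩

theorem seg_79 : Cert.FactSeg cert 11850 12000 just79 :=
  ⟨by decide +kernel, by decide +kernel⟩

theorem seg_80 : Cert.FactSeg cert 12000 12150 just80 :=
  ⟨by decide +kernel, by decide +kernel⟩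

theorem seg_81 : Cert.FactSeg cert 12150 12300 just81 :=
  ⟨by decide +kernel, by decide +kernel⟩

theorem seg_82 : Cert.FactSeg cert 12300 12450 just82 :=
  ⟨by decide +kernel, by decide +kernel⟩

theorem seg_83 : Cert.FactSeg cert 12450 12600 just83 :=
  ⟨by decide +kernel, by decide +kernel⟩

end CfsgLib.Spor.J4.MA
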