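import Cfsg.Agent.Lib.Spor.J4.FactsRange
import Cfsg.Agent.Lib.Spor.J4.MAData

/-!
Checking facts of the certificate (generated).
-/

set_option linter.all false

namespace CfsgLib.Spor.J4.MA

open CfsgLib.PresCert

theorem seg_84 : Cert.FactSeg cert 12600 12750 just84 :=
  ⟨by decide +kernel, by decide +kernel⟩

theorem seg_85 : Cert.FactSeg cert 12750 12900 just85 :=
  ⟨by decide +kernel, by decide +kernel⟩

theorem seg_86 : Cert.FactSeg cert 12900 13050 just86 :=
  ⟨by decide +kernel, by decide +kernel⟩

theorem seg_87 : Cert.FactSeg cert 13050 13200 just87 :=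
  ⟨by decide +kernel, by decide +kernel⟩

theorem seg_88 : Cert.FactSeg cert 13200 13350 just88 :=
  ⟨by decide +kernel, by decide +kernel⟩

theorem seg_89 : Cert.FactSeg cert 13350 13500 just89 :=
  ⟨by decide +kernel, by decide +kernel⟩

theorem seg_90 : Cert.FactSeg cert 13500 13650 just90 :=
  ⟨by decide +kernel, by decide +kernel⟩

theorem seg_91 : Cert.FactSeg cert 13650 13800 just91 :=
  ⟨by decide +kernel, by decide +kernel⟩

theorem seg_92 : Cert.FactSeg cert 13800 13950 just92 :=
  ⟨by decide +kernel, by decide +kernel⟩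

theorem seg_93 : Cert.FactSeg cert 13950 14100 just93 :=
  ⟨by decide +kernel, by decide +kernel⟩

theorem seg_94 : Cert.FactSeg cert 14100 14250 just94 :=
  ⟨by decide +kernel, by decide +kernel⟩

theorem seg_95 : Cert.FactSeg cert 14250 14400 just95 :=
  ⟨by decide +kernel, by decide +kernel⟩

end CfsgLib.Spor.J4.MA
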