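import Cfsg.Agent.Lib.Spor.J4.FactsRange
import Cfsg.Agent.Lib.Spor.J4.MAData

/-!
Checking facts of the certificate (generated).
-/

set_option linter.all false

namespace CfsgLib.Spor.J4.MA

open CfsgLib.PresCert

theorem seg_96 : Cert.FactSeg cert 14400 14550 just96 :=
  ⟨by decide +kernel, by decide +kernel⟩

theorem seg_97 : Cert.FactSeg cert 14550 14700 just97 :=
  ⟨by decide +kernel, by decide +kernel⟩

theorem seg_98 : Cert.FactSeg cert 14700 14850 just98 :=
  ⟨by decide +kernel, by decide +kernel⟩

theorem seg_99 : Cert.FactSeg cert 14850 15000 just99 :=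
  ⟨by decide +kernel, by decide +kernel⟩

theorem seg_100 : Cert.FactSeg cert 15000 15150 just100 :=
  ⟨by decide +kernel, by decide +kernel⟩

theorem seg_101 : Cert.FactSeg cert 15150 15300 just101 :=
  ⟨by decide +kernel, by decide +kernel⟩

theorem seg_102 : Cert.FactSeg cert 15300 15450 just102 :=
  ⟨by decide +kernel, by decide +kernel⟩

theorem seg_103 : Cert.FactSeg cert 15450 15600 just103 :=
  ⟨by decide +kernel, by decide +kernel⟩

theorem seg_104 : Cert.FactSeg cert 15600 15750 just104 :=
  ⟨by decide +kernel, by decide +kernel⟩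

theorem seg_105 : Cert.FactSeg cert 15750 15900 just105 :=
  ⟨by decide +kernel, by decide +kernel⟩

theorem seg_106 : Cert.FactSeg cert 15900 16050 just106 :=
  ⟨by decide +kernel, by decide +kernel⟩

theorem seg_107 : Cert.FactSeg cert 16050 16200 just107 :=
  ⟨by decide +kernel, by decide +kernel⟩

end CfsgLib.Spor.J4.MA
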