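import Cfsg.Agent.Lib.Spor.J4.FactsRange
import Cfsg.Agent.Lib.Spor.J4.MAData

/-!
Checking facts of the certificate (generated).
-/

set_option linter.all false

namespace CfsgLib.Spor.J4.MA

open CfsgLib.PresCert

theorem seg_108 : Cert.FactSeg cert 16200 16350 just108 :=
  ⟨by decide +kernel, by decide +kernel⟩

theorem seg_109 : Cert.FactSeg cert 16350 16500 just109 :=
  ⟨by decide +kernel, by decide +kernel⟩

theorem seg_110 : Cert.FactSeg cert 16500 16650 just110 :=
  ⟨by decide +kernel, by decide +kernel⟩

theorem seg_111 : Cert.FactSeg cert 16650 16800 just111 :=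
  ⟨by decide +kernel, by decide +kernel⟩

theorem seg_112 : Cert.FactSeg cert 16800 16950 just112 :=
  ⟨by decide +kernel, by decide +kernel⟩

theorem seg_113 : Cert.FactSeg cert 16950 17100 just113 :=
  ⟨by decide +kernel, by decide +kernel⟩

theorem seg_114 : Cert.FactSeg cert 17100 17250 just114 :=
  ⟨by decide +kernel, by decide +kernel⟩

theorem seg_115 : Cert.FactSeg cert 17250 17400 just115 :=
  ⟨by decide +kernel, by decide +kernel⟩

theorem seg_116 : Cert.FactSeg cert 17400 17550 just116 :=
  ⟨by decide +kernel, by decide +kernel⟩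

theorem seg_117 : Cert.FactSeg cert 17550 17700 just117 :=
  ⟨by decide +kernel, by decide +kernel⟩

theorem seg_118 : Cert.FactSeg cert 17700 17850 just118 :=
  ⟨by decide +kernel, by decide +kernel⟩

theorem seg_119 : Cert.FactSeg cert 17850 18000 just119 :=
  ⟨by decide +kernel, by decide +kernel⟩

end CfsgLib.Spor.J4.MA
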