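import Cfsg.Agent.Lib.Spor.J4.FactsRange
import Cfsg.Agent.Lib.Spor.J4.MCData

/-!
Checking facts of the certificate (generated).
-/

set_option linter.all false

namespace CfsgLib.Spor.J4.MC

open CfsgLib.PresCert

theorem seg_132 : Cert.FactSeg cert 19800 19950 just132 :=
  ⟨by decide +kernel, by decide +kernel⟩

theorem seg_133 : Cert.FactSeg cert 19950 20100 just133 :=
  ⟨by decide +kernel, by decide +kernel⟩

theorem seg_134 : Cert.FactSeg cert 20100 20250 just134 :=
  ⟨by decide +kernel, by decide +kernel⟩

theorem seg_135 : Cert.FactSeg cert 20250 20400 just135 :=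
  ⟨by decide +kernel, by decide +kernel⟩

theorem seg_136 : Cert.FactSeg cert 20400 20550 just136 :=
  ⟨by decide +kernel, by decide +kernel⟩

theorem seg_137 : Cert.FactSeg cert 20550 20700 just137 :=
  ⟨by decide +kernel, by decide +kernel⟩

theorem seg_138 : Cert.FactSeg cert 20700 20850 just138 :=
  ⟨by decide +kernel, by decide +kernel⟩

theorem seg_139 : Cert.FactSeg cert 20850 21000 just139 :=
  ⟨by decide +kernel, by decide +kernel⟩

theorem seg_140 : Cert.FactSeg cert 21000 21150 just140 :=
  ⟨by decide +kernel, by decide +kernel⟩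

theorem seg_141 : Cert.FactSeg cert 21150 21300 just141 :=
  ⟨by decide +kernel, by decide +kernel⟩

theorem seg_142 : Cert.FactSeg cert 21300 21450 just142 :=
  ⟨by decide +kernel, by decide +kernel⟩

theorem seg_143 : Cert.FactSeg cert 21450 21600 just143 :=
  ⟨by decide +kernel, by decide +kernel⟩

end CfsgLib.Spor.J4.MC
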