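import Cfsg.Agent.Lib.Spor.J4.FactsRange
import Cfsg.Agent.Lib.Spor.J4.MCData

/-!
Checking facts of the certificate (generated).
-/

set_option linter.all false

namespace CfsgLib.Spor.J4.MC

open CfsgLib.PresCert

theorem seg_156 : Cert.FactSeg cert 23400 23550 just156 :=
  ⟨by decide +kernel, by decide +kernel⟩

theorem seg_157 : Cert.FactSeg cert 23550 23700 just157 :=
  ⟨by decide +kernel, by decide +kernel⟩

theorem seg_158 : Cert.FactSeg cert 23700 23850 just158 :=
  ⟨by decide +kernel, by decide +kernel⟩

theorem seg_159 : Cert.FactSeg cert 23850 24000 just159 :=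
  ⟨by decide +kernel, by decide +kernel⟩

theorem seg_160 : Cert.FactSeg cert 24000 24150 just160 :=
  ⟨by decide +kernel, by decide +kernel⟩

theorem seg_161 : Cert.FactSeg cert 24150 24300 just161 :=
  ⟨by decide +kernel, by decide +kernel⟩

theorem seg_162 : Cert.FactSeg cert 24300 24450 just162 :=
  ⟨by decide +kernel, by decide +kernel⟩

theorem seg_163 : Cert.FactSeg cert 24450 24600 just163 :=
  ⟨by decide +kernel, by decide +kernel⟩

theorem seg_164 : Cert.FactSeg cert 24600 24750 just164 :=
  ⟨by decide +kernel, by decide +kernel⟩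

theorem seg_165 : Cert.FactSeg cert 24750 24900 just165 :=
  ⟨by decide +kernel, by decide +kernel⟩

theorem seg_166 : Cert.FactSeg cert 24900 25050 just166 :=
  ⟨by decide +kernel, by decide +kernel⟩

theorem seg_167 : Cert.FactSeg cert 25050 25200 just167 :=
  ⟨by decide +kernel, by decide +kernel⟩

end CfsgLib.Spor.J4.MC
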