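import Cfsg.Agent.Lib.Spor.J4.FactsRange
import Cfsg.Agent.Lib.Spor.J4.MCData

/-!
Checking facts of the certificate (generated).
-/

set_option linter.all false

namespace CfsgLib.Spor.J4.MC

open CfsgLib.PresCert

theorem seg_180 : Cert.FactSeg cert 27000 27150 just180 :=
  ⟨by decide +kernel, by decide +kernel⟩

theorem seg_181 : Cert.FactSeg cert 27150 27300 just181 :=
  ⟨by decide +kernel, by decide +kernel⟩

theorem seg_182 : Cert.FactSeg cert 27300 27450 just182 :=
  ⟨by decide +kernel, by decide +kernel⟩

theorem seg_183 : Cert.FactSeg cert 27450 27600 just183 :=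
  ⟨by decide +kernel, by decide +kernel⟩

theorem seg_184 : Cert.FactSeg cert 27600 27750 just184 :=
  ⟨by decide +kernel, by decide +kernel⟩

theorem seg_185 : Cert.FactSeg cert 27750 27900 just185 :=
  ⟨by decide +kernel, by decide +kernel⟩

theorem seg_186 : Cert.FactSeg cert 27900 28050 just186 :=
  ⟨by decide +kernel, by decide +kernel⟩

theorem seg_187 : Cert.FactSeg cert 28050 28200 just187 :=
  ⟨by decide +kernel, by decide +kernel⟩

theorem seg_188 : Cert.FactSeg cert 28200 28350 just188 :=
  ⟨by decide +kernel, by decide +kernel⟩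

theorem seg_189 : Cert.FactSeg cert 28350 28500 just189 :=
  ⟨by decide +kernel, by decide +kernel⟩

theorem seg_190 : Cert.FactSeg cert 28500 28650 just190 :=
  ⟨by decide +kernel, by decide +kernel⟩

theorem seg_191 : Cert.FactSeg cert 28650 28800 just191 :=
  ⟨by decide +kernel, by decide +kernel⟩

end CfsgLib.Spor.J4.MC
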