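import Cfsg.Agent.Lib.PresCert.Range
import Cfsg.Agent.Lib.Spor.J4.MCFacts0
import Cfsg.Agent.Lib.Spor.J4.MCFacts1
import Cfsg.Agent.Lib.Spor.J4.MCFacts2
import Cfsg.Agent.Lib.Spor.J4.MCFacts3
import Cfsg.Agent.Lib.Spor.J4.MCFacts4
import Cfsg.Agent.Lib.Spor.J4.MCFacts5
import Cfsg.Agent.Lib.Spor.J4.MCFacts6
import Cfsg.Agent.Lib.Spor.J4.MCFacts7
import Cfsg.Agent.Lib.Spor.J4.MCFacts8
import Cfsg.Agent.Lib.Spor.J4.MCFacts9
import Cfsg.Agent.Lib.Spor.J4.MCFacts10
import Cfsg.Agent.Lib.Spor.J4.MCFacts11
import Cfsg.Agent.Lib.Spor.J4.MCFacts12
import Cfsg.Agent.Lib.Spor.J4.MCFacts13
import Cfsg.Agent.Lib.Spor.J4.MCFacts14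
import Cfsg.Agent.Lib.Spor.J4.MCFacts15
import Cfsg.Agent.Lib.Spor.J4.MCFacts16
import Cfsg.Agent.Lib.Spor.J4.MCFacts17
import Cfsg.Agent.Lib.Spor.J4.MCFacts18
import Cfsg.Agent.Lib.Spor.J4.MCFacts19
import Cfsg.Agent.Lib.Spor.J4.MCFacts20
import Cfsg.Agent.Lib.Spor.J4.MCFacts21
import Cfsg.Agent.Lib.Spor.J4.MCPart0

/-!
The certificate is valid.
-/

namespace CfsgLib.Spor.J4.MC

open CfsgLib.PresCert

set_option maxRecDepth 20000 in
theorem facts_seg : Cert.FactSeg cert 0 38710 justs :=
  ((((((((((((((((((((((((((((((((((((((((((((((((((((((((((((((((((((((((((((((((((((((((((((((((((((((((((((((((((((((((((((((((((((((((((((((((((((((((((((((((((((((((((((((((((((((((((((((((((((((((((((((((((((((((((((((((((((((((((((((((((((((((((((((((((seg_0.join seg_1).join seg_2).join seg_3).join seg_4).join seg_5).join seg_6).join seg_7).join seg_8).join seg_9).join seg_10).join seg_11).join seg_12).join seg_13).join seg_14).join seg_15).join seg_16).join seg_17).join seg_18).join seg_19).join seg_20).join seg_21).join seg_22).join seg_23).join seg_24).join seg_25).join seg_26).join seg_27).join seg_28).join seg_29).join seg_30).join seg_31).join seg_32).join seg_33).join seg_34).join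 seg_35).join seg_36).join seg_37).join seg_38).join seg_39).join seg_40).join seg_41).join seg_42).join seg_43).join seg_44).join seg_45).join seg_46).join seg_47).join seg_48).join seg_49).join seg_50).join seg_51).join seg_52).join seg_53).join seg_54).join seg_55).join seg_56).join seg_57).join seg_58).join seg_59).join seg_60).join seg_61).join seg_62).join seg_63).join seg_64).join seg_65).join seg_66).join seg_67).join seg_68).join seg_69).join seg_70).join seg_71).join seg_72).join seg_73).join seg_74).join seg_75).join seg_76).join seg_77).join seg_78).join seg_79).join seg_80).join seg_81).join seg_82).join seg_83).join seg_84).join seg_85).join seg_86).join seg_87).join seg_88).join seg_89).join seg_90).join seg_91).join seg_92).join seg_93).join seg_94).join seg_95).join seg_96).join seg_97).join seg_98).join seg_99).join seg_100).join seg_101).join seg_102).join seg_103).join seg_104).join seg_105).join seg_106).join seg_107).join seg_108).join seg_109).join seg_110).join seg_111).join seg_112).join seg_113).join seg_114).join seg_115).join seg_116).join seg_117).join seg_118).join seg_119).join seg_120).join seg_121).join seg_122).join seg_123).join seg_124).join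 seg_125).join seg_126).join seg_127).join seg_128).join seg_129).join seg_130).join seg_131).join seg_132).join seg_133).join seg_134).join seg_135).join seg_136).join seg_137).join seg_138).join seg_139).join seg_140).join seg_141).join seg_142).join seg_143).join seg_144).join seg_145).join seg_146).join seg_147).join seg_148).join seg_149).join seg_150).join seg_151).join seg_152).join seg_153).join seg_154).join seg_155).join seg_156).join seg_157).join seg_158).join seg_159).join seg_160).join seg_161).join seg_162).join seg_163).join seg_164).join seg_165).join seg_166).join seg_167).join seg_168).join seg_169).join seg_170).join seg_171).join seg_172).join seg_173).join seg_174).join seg_175).join seg_176).join seg_177).join seg_178).join seg_179).join seg_180).join seg_181).join seg_182).join seg_183).join seg_184).join seg_185).join seg_186).join seg_187).join seg_188).join seg_189).join seg_190).join seg_191).join seg_192).join seg_193).join seg_194).join seg_195).join seg_196).join seg_197).join seg_198).join seg_199).join seg_200).join seg_201).join seg_202).join seg_203).join seg_204).join seg_205).join seg_206).join seg_207).join seg_208).join seg_209).join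 seg_210).join seg_211).join seg_212).join seg_213).join seg_214).join seg_215).join seg_216).join seg_217).join seg_218).join seg_219).join seg_220).join seg_221).join seg_222).join seg_223).join seg_224).join seg_225).join seg_226).join seg_227).join seg_228).join seg_229).join seg_230).join seg_231).join seg_232).join seg_233).join seg_234).join seg_235).join seg_236).join seg_237).join seg_238).join seg_239).join seg_240).join seg_241).join seg_242).join seg_243).join seg_244).join seg_245).join seg_246).join seg_247).join seg_248).join seg_249).join seg_250).join seg_251).join seg_252).join seg_253).join seg_254).join seg_255).join seg_256).join seg_257).join seg_258)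

theorem facts_ok : cert.okFacts 0 justs = true := facts_seg.1

theorem justs_length : justs.length = cert.nfact :=
  (Nat.zero_add _).symm.trans facts_seg.2

theorem labs_ok : ((List.range cert.nfact).all fun i => Nat.ble (cert.fLab i) cert.g) = true := by
  decide +kernel

theorem valid : Cert.Valid cert justs where
  facts := facts_ok
  len := justs_length
  labs := labs_ok
  slots := fun c hc => (Cert.slotsOK_of_range slots_0) c (Nat.zero_le c) hc
  pos := (by decide +kernel : 0 < cert.n)

end CfsgLib.Spor.J4.MC
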