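import Cfsg.Agent.Lib.Spor.J4.PresChk
import Cfsg.Agent.Lib.Spor.J4.MACert
import Cfsg.Agent.Lib.Spor.J4.MCCert
import Cfsg.Agent.Lib.Spor.M24Order
import Cfsg.Agent.S2038

/-!
The presentation of the Mathieu group M₂₄ on two generators by seven relators.
-/

set_option autoImplicit false

namespace CfsgLib.Spor.J4

open CfsgLib.PresCert CfsgLib.Spor.ON

/-- The seven relators of M₂₄. -/
structure M24Rels {Q : Type*} [Group Q] (a b : Q) : Prop where
  sq : a ^ 2 = 1
  cube : b ^ 3 = 1
  r23 : (a * b) ^ 23 = 1
  c12 : (a⁻¹ * b⁻¹ * a * b) ^ 12 = 1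
  c5 : (a⁻¹ * (b * a * b)⁻¹ * a * (b * a * b)) ^ 5 = 1
  p4 : (a * b * ((a * b * a * (b⁻¹)) ^ 3)) ^ 4 = 1
  q33 : ((a * b * a * b * a * (b⁻¹)) ^ 3) * ((a * b * a * (b⁻¹) * a * (b⁻¹)) ^ 3) = 1

theorem M24Rels.map {Q R : Type*} [Group Q] [Group R] {a b : Q} (h : M24Rels a b) (f : Q →* R) :
    M24Rels (f a) (f b) := by
  constructor <;> simp only [← map_pow, ← map_mul, ← map_inv]
  · rw [h.sq, map_one]
  · rw [h.cube, map_one]
  · rw [h.r23, map_one]
  · rw [h.c12, map_one]
  · rw [h.c5, map_one]
  · rw [h.p4, map_one]
  · rw [h.q33, map_one]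

section Bound

variable {Q : Type*} [Group Q] {a b : Q}

/-- values of the four letters -/
def letterVal (a b : Q) : ℕ → Q
  | 0 => a
  | 1 => a
  | 2 => b
  | _ => b⁻¹

/-- the interpretation of the alphabet -/
noncomputable def interp (h : M24Rels a b) : Interp Pres.alph Q where
  gen := letterVal a b
  gen_inv := by
    have ha : a⁻¹ = a := inv_eq_of_mul_eq_one_right (by rw [← sq]; exact h.sq)
    intro x hx
    change x < 4 at hx
    interval_cases x <;> exact ⟨by decide +kernel, by simp [Alph.iv, Pres.alph, letterVal, ha]⟩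
  rels_eq := by
    have ha : a⁻¹ = a := inv_eq_of_mul_eq_one_right (by rw [← sq]; exact h.sq)
    intro r hr
    simp only [Pres.alph, List.mem_cons, List.not_mem_nil, or_false] at hr
    rcases hr with rfl | rfl | rfl | rfl | rfl | rfl | rfl <;> refine ⟨by decide +kernel, ?_⟩
    · simpa [letterVal, pow_succ] using h.sq
    · simpa [letterVal, pow_succ, mul_assoc] using h.cube
    · simpa [letterVal, pow_succ, mul_assoc] using h.r23
    · simpa [letterVal, pow_succ, mul_assoc, mul_inv_rev, ha] using h.c12
    · simpa [letterVal, pow_succ, mul_assoc, mul_inv_rev, ha] using h.c5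
    · simpa [letterVal, pow_succ, mul_assoc] using h.p4
    · simpa [letterVal, pow_succ, mul_assoc] using h.q33
  sub := ⊤
  subs_mem := fun r hr => by simp [Pres.alph] at hr

/-- letters of the first certificate -/
def selA : List ℕ := [0, 1, 2, 3, 6, 7]

/-- relations of a certificate are among the known ones -/
def relsCovered (C : Cert) (sel : List ℕ) : Bool :=
  C.rels.all fun r => r.all (fun x => Nat.blt x C.g) &&
    (Pres.relItems.any fun e => e.1 == r.map fun x => sel.getD x 0)

theorem covA : relsCovered MA.cert selA = true := by decide +kernel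

theorem covC : relsCovered MC.cert (List.range 10) = true := by decide +kernel

theorem has_cube : (Pres.relItems.any fun e => e.1 == [7, 7, 7]) = true := by decide +kernel

theorem cert_rels (h : M24Rels a b) {C : Cert} {sel : List ℕ} (hc : relsCovered C sel = true) :
    ∀ r ∈ C.rels, (∀ x ∈ r, x < C.g) ∧
      (r.map fun x => Pres.kval (interp h) (sel.getD x 0)).prod = 1 := by
  intro r hr
  simp only [relsCovered, List.all_eq_true, Bool.and_eq_true, Nat.blt_eq, List.any_eq_true,
    beq_iff_eq] at hc
  obtain ⟨h1, e, he, heq⟩ := hc r hr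
  refine ⟨h1, ?_⟩
  have := (Pres.rel_one (interp h) e he).2
  rwa [heq, List.map_map] at this

theorem cube_one (h : M24Rels a b) : Pres.kval (interp h) 6 ^ 3 = 1 := by
  obtain ⟨e, he, heq⟩ := List.any_eq_true.1 has_cube
  rw [beq_iff_eq] at heq
  have := (Pres.rel_one (interp h) e he).2
  rw [heq] at this
  have e7 := Pres.kval_odd (interp h) 3
  simp only [show 2 * 3 + 1 = 7 from rfl, show 2 * 3 = 6 from rfl] at e7
  simp only [List.map_cons, List.map_nil, List.prod_cons, List.prod_nil, mul_one, e7] at this
  rw [← inv_eq_one, ← this]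
  group

theorem subsA : MA.cert.subs = [[4]] := by decide +kernel

theorem subsC : MC.cert.subs = [[0], [2], [6]] := by decide +kernel

/-- A group generated by two elements with the relations has order at most 3·244823040. -/
theorem cardLE_top (h : M24Rels a b) (htop : Subgroup.closure {a, b} = (⊤ : Subgroup Q)) :
    CardLE (⊤ : Subgroup Q) (24 * (1771 * (5760 * 3))) := by
  set v := Pres.kval (interp h) with hv
  set vA : ℕ → Q := fun x => v (selA.getD x 0) with hvA
  have hA : CardLE (genBy 6 vA) (5760 * 3) := by
    have hb := CardLE.zpowers (a := v 6) (n := 3) (by norm_num) (cube_one h)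
    have := cardLE_of_cert MA.valid vA (fun x hx => ?_) (cert_rels h covA)
      (K := Subgroup.zpowers (v 6)) ?_ ?_ hb
    · simpa [MA.cert] using this
    · change x < 6 at hx
      refine ⟨by interval_cases x <;> decide +kernel, ?_⟩
      interval_cases x <;>
        simp only [hvA, hv, Cert.iv, MA.cert, selA, List.getD_cons_succ, List.getD_cons_zero]
      exacts [Pres.kval_odd _ 0, by rw [Pres.kval_odd _ 0, inv_inv],
        Pres.kval_odd _ 1, by rw [Pres.kval_odd _ 1, inv_inv],
        Pres.kval_odd _ 3, by rw [Pres.kval_odd _ 3, inv_inv]]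
    · rw [Subgroup.zpowers_le]
      exact mem_genBy (g := MA.cert.g) vA (x := 4) (by decide +kernel)
    · intro r hr
      rw [subsA, List.mem_singleton] at hr
      subst hr
      refine ⟨by decide +kernel, ?_⟩
      simp [hvA, selA]
  have hC : CardLE (genBy 10 v) (1771 * (5760 * 3)) := by
    have := cardLE_of_cert MC.valid v (fun x hx => ?_) (fun r hr => ?_)
      (K := genBy 6 vA) ?_ ?_ hA
    · simpa [MC.cert] using this
    · change x < 10 at hx
      refine ⟨by interval_cases x <;> decide +kernel, ?_⟩
      rw [(Pres.kval_inv (interp h) x hx).2.symm]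
      congr 1
      interval_cases x <;> rfl
    · obtain ⟨h1, h2⟩ := cert_rels h covC r hr
      refine ⟨h1, ?_⟩
      rw [← h2]
      refine congrArg List.prod (List.map_congr_left fun x hx => ?_)
      have := h1 x hx
      change x < 10 at this
      interval_cases x <;> rfl
    · rw [genBy, Subgroup.closure_le]
      rintro _ ⟨x, hx, rfl⟩
      refine mem_genBy v ?_
      show selA.getD x 0 < 10
      interval_cases x <;> decide
    · intro r hr
      rw [subsC] at hr
      simp only [List.mem_cons, List.not_mem_nil, or_false] at hr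
      rcases hr with rfl | rfl | rfl <;> refine ⟨by decide +kernel, ?_⟩ <;>
        simp only [List.map_cons, List.map_nil, List.prod_cons, List.prod_nil, mul_one]
      exacts [mem_genBy (g := 6) vA (x := 0) (by norm_num),
        mem_genBy (g := 6) vA (x := 2) (by norm_num),
        mem_genBy (g := 6) vA (x := 4) (by norm_num)]
  obtain ⟨h1, h2⟩ := Pres.kept_relIndex (interp h)
    (by show a * a = 1; rw [← sq]; exact h.sq)
    (by show b * b * b = 1; rw [mul_assoc, ← pow_three, h.cube]) htop
  refine hC.step le_top ⟨?_, ?_⟩ <;> rw [Subgroup.relIndex_top_right]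
  exacts [h1, h2]

theorem commutator_eq_top (h : M24Rels a b) (htop : Subgroup.closure {a, b} = (⊤ : Subgroup Q)) :
    commutator Q = ⊤ := by
  rw [eq_top_iff, ← htop, Subgroup.closure_le]
  have hA := h.map (Abelianization.of : Q →* Abelianization Q)
  set A := Abelianization.of a
  set B := Abelianization.of b
  have hA2 := hA.sq
  have hB3 := hA.cube
  have h23 := hA.r23
  rw [mul_pow, show 23 = 2 * 11 + 1 from rfl, pow_succ A, pow_mul A, hA2, one_pow, one_mul,
    show 2 * 11 + 1 = 3 * 7 + 2 from rfl, pow_add B, pow_mul B, hB3, one_pow, one_mul] at h23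
  have hAB : A = B := by
    have e : B ^ 2 * B = 1 := by rw [← pow_succ]; exact hB3
    exact (eq_inv_of_mul_eq_one_left h23).trans (eq_inv_of_mul_eq_one_right e).symm
  have hB : B = 1 := by
    rw [hAB] at hA2
    rwa [pow_succ, hA2, one_mul] at hB3
  intro x hx
  rw [SetLike.mem_coe, ← Abelianization.ker_of, MonoidHom.mem_ker]
  rcases hx with rfl | rfl
  exacts [hAB.trans hB, hB]

end Bound

/-- A normal subgroup with at most three elements of a perfect group is central. -/
theorem le_center_of_card_le_three {Q : Type*} [Group Q] (hp : commutator Q = ⊤)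
    (N : Subgroup Q) [N.Normal] [Finite N] (hN : Nat.card N ≤ 3) : N ≤ Subgroup.center Q := by
  intro n hn
  by_cases h1 : n = 1
  · simp [h1]
  have hsub : MulAction.orbit (ConjAct Q) n ⊆ (N : Set Q) \ {1} := by
    rintro _ ⟨g, rfl⟩
    refine ⟨?_, ?_⟩
    · simp only [ConjAct.smul_def, SetLike.mem_coe]
      exact Subgroup.Normal.conj_mem inferInstance n hn _
    · simp only [ConjAct.smul_def, Set.mem_singleton_iff, conj_eq_one_iff]
      exact h1
  have hfin : ((N : Set Q) \ {1}).Finite := (Set.toFinite (N : Set Q)).diff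
  have hle : Nat.card (MulAction.orbit (ConjAct Q) n) ≤ 2 := by
    refine (Nat.card_mono hfin hsub).trans ?_
    rw [Nat.card_coe_set_eq, Set.ncard_diff_singleton_of_mem (one_mem N), ← Nat.card_coe_set_eq]
    change Nat.card N - 1 ≤ 2
    omega
  have hidx : (Subgroup.centralizer {n}).index ≤ 2 ∧ (Subgroup.centralizer {n}).index ≠ 0 := by
    have hfo : (MulAction.orbit (ConjAct Q) n).Finite := hfin.subset hsub
    have e : (MulAction.stabilizer (ConjAct Q) n).index = (Subgroup.centralizer {n}).index := by
      rw [Subgroup.centralizer_eq_comap_stabilizer]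
      exact (Subgroup.index_comap_of_surjective _ ConjAct.toConjAct.surjective).symm
    rw [← e, MulAction.index_stabilizer, ← Nat.card_coe_set_eq]
    refine ⟨hle, ?_⟩
    have := hfo.to_subtype
    have : Nonempty (MulAction.orbit (ConjAct Q) n) := ⟨⟨n, MulAction.mem_orbit_self n⟩⟩
    exact Nat.card_pos.ne'
  have htop : Subgroup.centralizer {n} = ⊤ := by
    rw [← Subgroup.index_eq_one]
    by_contra hne
    have h2 : (Subgroup.centralizer {n}).index = 2 := by omega
    have := Subgroup.normal_of_index_eq_two h2
    have hcomm : commutator Q ≤ Subgroup.centralizer {n} := by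
      have hc : IsCyclic (Q ⧸ Subgroup.centralizer {n}) := by
        have : Fact (Nat.Prime 2) := ⟨Nat.prime_two⟩
        exact isCyclic_of_prime_card (p := 2) (by rw [← Subgroup.index_eq_card, h2])
      exact Subgroup.Normal.quotient_commutative_iff_commutator_le.1
        IsCyclic.commutative
    rw [hp, top_le_iff] at hcomm
    rw [hcomm, Subgroup.index_top] at h2
    omega
  rw [Subgroup.mem_center_iff]
  intro g
  have hg : g ∈ Subgroup.centralizer {n} := htop ▸ Subgroup.mem_top g
  exact ((Subgroup.mem_centralizer_iff.1 hg) n rfl).symm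

end CfsgLib.Spor.J4
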