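import Cfsg.Agent.Lib.Spor.J4.M24Perm
import Cfsg.Agent.Lib.Spor.J4.M24Pres

/-!
`Cfsg.M24` is presented by the seven relators.
-/

set_option autoImplicit false

namespace CfsgLib.Spor.J4.M24Iso

open CfsgLib.PresCert

/-- the generators in the free group -/
def xf : FreeGroup (Fin 2) := FreeGroup.of 0

/-- the generators in the free group -/
def yf : FreeGroup (Fin 2) := FreeGroup.of 1

/-- the seven relators -/
def rels : Set (FreeGroup (Fin 2)) :=
  {r | r ∈ [xf ^ 2, yf ^ 3, (xf * yf) ^ 23, (xf⁻¹ * yf⁻¹ * xf * yf) ^ 12,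
    (xf⁻¹ * (yf * xf * yf)⁻¹ * xf * (yf * xf * yf)) ^ 5,
    (xf * yf * ((xf * yf * xf * (yf⁻¹)) ^ 3)) ^ 4,
    ((xf * yf * xf * yf * xf * (yf⁻¹)) ^ 3) * ((xf * yf * xf * (yf⁻¹) * xf * (yf⁻¹)) ^ 3)]}

/-- the presented group -/
abbrev P : Type := PresentedGroup rels

/-- the first generator -/
def pa : P := PresentedGroup.mk rels xf

/-- the second generator -/
def pb : P := PresentedGroup.mk rels yf

theorem pRels : M24Rels pa pb := by
  constructor <;> simp only [pa, pb, ← map_pow, ← map_mul, ← map_inv] <;>
    refine PresentedGroup.one_of_mem ?_ <;>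
    simp only [rels, Set.mem_setOf_eq, List.mem_cons, List.not_mem_nil, or_false, eq_self,
      true_or, or_true]

theorem p_top : Subgroup.closure {pa, pb} = (⊤ : Subgroup P) := by
  rw [eq_top_iff, ← PresentedGroup.closure_range_of rels, Subgroup.closure_le]
  rintro _ ⟨i, rfl⟩
  fin_cases i
  · exact Subgroup.subset_closure (Or.inl rfl)
  · exact Subgroup.subset_closure (Or.inr rfl)

/-- the first generator of M₂₄ -/
def ga : Cfsg.M24 := ⟨mA, mA_mem⟩

/-- the second generator of M₂₄ -/
def gb : Cfsg.M24 := ⟨mB, mB_mem⟩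

theorem gRels : M24Rels ga gb := by
  have h2 := relator_one [0, 0] (by decide +kernel)
  have h3 := relator_one [2, 2, 2] (by decide +kernel)
  have h23 := relator_one (List.replicate 23 [0, 2]).flatten (by decide +kernel)
  have h12 := relator_one (List.replicate 12 [0, 3, 0, 2]).flatten (by decide +kernel)
  have h5 := relator_one (List.replicate 5 [0, 3, 0, 3, 0, 2, 0, 2]).flatten (by decide +kernel)
  have h4 := relator_one
    (List.replicate 4 ([0, 2] ++ (List.replicate 3 [0, 2, 0, 3]).flatten)).flatten
    (by decide +kernel)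
  have h33 := relator_one ((List.replicate 3 [0, 2, 0, 2, 0, 3]).flatten ++
    (List.replicate 3 [0, 2, 0, 3, 0, 3]).flatten) (by decide +kernel)
  have ha : mA⁻¹ = mA := inv_eq_of_mul_eq_one_right (by simpa [mLet] using h2)
  constructor <;> apply Subtype.ext <;>
    simp only [Subgroup.coe_pow, Subgroup.coe_mul, Subgroup.coe_inv, Subgroup.coe_one, ga, gb]
  · simpa [mLet, pow_succ] using h2
  · simpa [mLet, pow_succ, mul_assoc] using h3
  · simpa [mLet, pow_succ, mul_assoc, List.replicate_succ] using h23
  · simpa [mLet, pow_succ, mul_assoc, List.replicate_succ, mul_inv_rev, ha] using h12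
  · simpa [mLet, pow_succ, mul_assoc, List.replicate_succ, mul_inv_rev, ha] using h5
  · simpa [mLet, pow_succ, mul_assoc, List.replicate_succ] using h4
  · simpa [mLet, pow_succ, mul_assoc, List.replicate_succ] using h33

/-- the map to M₂₄ -/
def proj : P →* Cfsg.M24 :=
  PresentedGroup.toGroup (f := ![ga, gb]) (by
    intro r hr
    simp only [rels, Set.mem_setOf_eq, List.mem_cons, List.not_mem_nil, or_false] at hr
    rcases hr with rfl | rfl | rfl | rfl | rfl | rfl | rfl <;>
      simp only [map_pow, map_mul, map_inv, xf, yf, FreeGroup.lift_apply_of,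
        Matrix.cons_val_zero, Matrix.cons_val_one]
    exacts [gRels.sq, gRels.cube, gRels.r23, gRels.c12, gRels.c5, gRels.p4, gRels.q33])

theorem proj_pa : proj pa = ga := by simp [proj, pa, xf, ← PresentedGroup.of.eq_1]

theorem proj_pb : proj pb = gb := by simp [proj, pb, yf, ← PresentedGroup.of.eq_1]

theorem gen_top : Subgroup.closure {ga, gb} = (⊤ : Subgroup Cfsg.M24) := by
  apply Subgroup.map_injective (Subgroup.subtype_injective Cfsg.M24)
  rw [MonoidHom.map_closure, ← MonoidHom.range_eq_map, Subgroup.range_subtype, Set.image_pair]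
  exact closure_mAB

theorem proj_surjective : Function.Surjective proj := by
  rw [← MonoidHom.range_eq_top, eq_top_iff, ← gen_top, Subgroup.closure_le]
  rintro _ (rfl | rfl)
  exacts [⟨pa, proj_pa⟩, ⟨pb, proj_pb⟩]

theorem finite_P : Finite P := by
  have h := (cardLE_top pRels p_top).1
  rw [Subgroup.card_top] at h
  exact Nat.finite_of_card_ne_zero h

theorem proj_injective : Function.Injective proj := by
  have := finite_P
  rw [← MonoidHom.ker_eq_bot_iff]
  have hcard : Nat.card proj.ker ≤ 3 := by
    have h1 := Subgroup.card_mul_index proj.ker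
    rw [Subgroup.index_ker, MonoidHom.range_eq_top.2 proj_surjective, Subgroup.card_top,
      CfsgLib.Spor.natCard_M24] at h1
    have h2 := (cardLE_top pRels p_top).2
    rw [Subgroup.card_top, ← h1,
      show (24 : ℕ) * (1771 * (5760 * 3)) = 3 * 244823040 by norm_num] at h2
    exact Nat.le_of_mul_le_mul_right h2 (by norm_num)
  have hcomm := commutator_eq_top pRels p_top
  have hs : Cfsg.IsStemExtension proj :=
    ⟨proj_surjective, le_center_of_card_le_three hcomm _ hcard, hcomm ▸ le_top⟩
  obtain ⟨π, hπ⟩ := Cfsg.Agent.S2038.result.2 P proj hs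
  rw [eq_bot_iff]
  intro x hx
  obtain ⟨z, hz⟩ := hπ ⟨x, hx⟩
  rw [Subsingleton.elim z 1, map_one] at hz
  exact (congrArg Subtype.val hz).symm

/-- The presented group is M₂₄. -/
noncomputable def equiv : P ≃* Cfsg.M24 :=
  MulEquiv.ofBijective proj ⟨proj_injective, proj_surjective⟩

variable {Q : Type*} [Group Q] {a b : Q}

/-- the map from the presented group given by two elements -/
def lift (h : M24Rels a b) : P →* Q :=
  PresentedGroup.toGroup (f := ![a, b]) (by
    intro r hr
    simp only [rels, Set.mem_setOf_eq, List.mem_cons, List.not_mem_nil, or_false] at hr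
    rcases hr with rfl | rfl | rfl | rfl | rfl | rfl | rfl <;>
      simp only [map_pow, map_mul, map_inv, xf, yf, FreeGroup.lift_apply_of,
        Matrix.cons_val_zero, Matrix.cons_val_one]
    exacts [h.sq, h.cube, h.r23, h.c12, h.c5, h.p4, h.q33])

/-- The homomorphism out of M₂₄ given by two elements satisfying the relators. -/
noncomputable def toHom (h : M24Rels a b) : Cfsg.M24 →* Q :=
  (lift h).comp equiv.symm.toMonoidHom

theorem equiv_symm_ga : equiv.symm ga = pa :=
  equiv.injective (by rw [MulEquiv.apply_symm_apply]; exact proj_pa.symm)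

theorem equiv_symm_gb : equiv.symm gb = pb :=
  equiv.injective (by rw [MulEquiv.apply_symm_apply]; exact proj_pb.symm)

theorem toHom_ga (h : M24Rels a b) : toHom h ga = a := by
  simp [toHom, equiv_symm_ga, lift, pa, xf, ← PresentedGroup.of.eq_1]

theorem toHom_gb (h : M24Rels a b) : toHom h gb = b := by
  simp [toHom, equiv_symm_gb, lift, pb, yf, ← PresentedGroup.of.eq_1]

theorem range_toHom (h : M24Rels a b) : (toHom h).range = Subgroup.closure {a, b} := by
  rw [MonoidHom.range_eq_map, ← gen_top, MonoidHom.map_closure, Set.image_pair, toHom_ga,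
    toHom_gb]

end CfsgLib.Spor.J4.M24Iso
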