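import Cfsg.Agent.Lib.Spor.J4.Finite
import Cfsg.Agent.Lib.Spor.J4Lower.Main

/-!
The presented J₄ has order 86775571046077562880, the representation of degree 112 is faithful, and
`2¹¹:M₂₄` has index 173067389.
-/

set_option autoImplicit false

namespace CfsgLib.Spor.J4

open CfsgLib.PresCert CfsgLib.Spor Cfsg CfsgLib.Spor.J4.Index

/-- the presented group -/
local notation "J" => Cfsg.Spor.J4

theorem natCard_eq : Nat.card J = 86775571046077562880 :=
  have := finite
  (J4Lower.natCard_and_injective natCard_le).1

theorem rep_injective : Function.Injective J4Rep.rep :=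
  have := finite
  (J4Lower.natCard_and_injective natCard_le).2

theorem subH_card_index :
    Nat.card subH = 2 ^ 11 * 244823040 ∧ subH.index = 173067389 := by
  have := finite
  have h1 := Order.cardLE_subH.2
  have h2 := index_le.1
  have h3 := Subgroup.card_mul_index subH
  rw [natCard_eq, show 86775571046077562880 = (2 ^ 11 * 244823040) * 173067389 by norm_num] at h3
  constructor
  · by_contra hne
    have : Nat.card subH * subH.index < (2 ^ 11 * 244823040) * 173067389 :=
      calc Nat.card subH * subH.index ≤ Nat.card subH * 173067389 := Nat.mul_le_mul_left _ h2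
        _ < _ := Nat.mul_lt_mul_of_pos_right (lt_of_le_of_ne h1 hne) (by norm_num)
    omega
  · by_contra hne
    have : Nat.card subH * subH.index < (2 ^ 11 * 244823040) * 173067389 :=
      calc Nat.card subH * subH.index ≤ (2 ^ 11 * 244823040) * subH.index :=
            Nat.mul_le_mul_right _ h1
        _ < _ := Nat.mul_lt_mul_of_pos_left (lt_of_le_of_ne h2 hne) (by norm_num)
    omega

theorem natCard_pts : Nat.card Pts = 173067389 := by
  rw [Pts, ← Subgroup.index_eq_card]
  exact subH_card_index.2

end CfsgLib.Spor.J4
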