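import Cfsg.Agent.Lib.PresCert.Presented

/-!
A coset certificate bounds the order of a subgroup given by generators.
-/

set_option autoImplicit false

namespace CfsgLib.Spor.J4

open CfsgLib.PresCert

/-- The subgroup generated by the first `g` values. -/
def genBy {Q : Type*} [Group Q] (g : Nat) (v : Nat → Q) : Subgroup Q :=
  Subgroup.closure {q | ∃ x < g, v x = q}

theorem mem_genBy {Q : Type*} [Group Q] {g : Nat} (v : Nat → Q) {x : Nat} (hx : x < g) :
    v x ∈ genBy g v := Subgroup.subset_closure ⟨x, hx, rfl⟩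

/-- A valid certificate turns a bound for the subgroup into one for the generated group. -/
theorem cardLE_of_cert {Q : Type*} [Group Q] {C : Cert} {js : List Cert.Just} (V : Cert.Valid C js)
    (v : Nat → Q) (hinv : ∀ x < C.g, C.iv x < C.g ∧ v (C.iv x) = (v x)⁻¹)
    (hrel : ∀ r ∈ C.rels, (∀ x ∈ r, x < C.g) ∧ (r.map v).prod = 1) {K : Subgroup Q}
    (hK : K ≤ genBy C.g v)
    (hs : ∀ r ∈ C.subs, (∀ x ∈ r, x < C.g) ∧ (r.map v).prod ∈ K) {b : ℕ} (hb : CardLE K b) :
    CardLE (genBy C.g v) (C.n * b) := by
  set L := genBy C.g v with hL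
  let gl : Nat → L := fun x => if hx : x < C.g then ⟨v x, mem_genBy v hx⟩ else 1
  have hgl : ∀ x < C.g, ((gl x : L) : Q) = v x := fun x hx => by simp [gl, hx]
  have hprod : ∀ r : List Nat, (∀ x ∈ r, x < C.g) →
      (((r.map gl).prod : L) : Q) = (r.map v).prod := fun r hr => by
    rw [Subgroup.val_list_prod, List.map_map]
    exact congrArg List.prod (List.map_congr_left fun x hx => hgl x (hr x hx))
  let M : Model C L :=
    { gen := gl
      gen_inv := fun x hx => ⟨(hinv x hx).1, Subtype.ext (by
        rw [Subgroup.coe_inv, hgl x hx, hgl _ (hinv x hx).1]; exact (hinv x hx).2)⟩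
      rels_eq := fun r hr => ⟨(hrel r hr).1, Subtype.ext (by
        rw [hprod r (hrel r hr).1, Subgroup.coe_one]; exact (hrel r hr).2)⟩
      sub := K.subgroupOf L
      subs_mem := fun r hr => by
        rw [Subgroup.mem_subgroupOf, hprod r (hs r hr).1]
        exact (hs r hr).2
      closure_gen := by
        rw [eq_top_iff]
        rintro ⟨q, hq⟩ -
        induction hq using Subgroup.closure_induction with
        | mem q hq =>
          obtain ⟨x, hx, rfl⟩ := hq
          exact Subgroup.subset_closure ⟨x, hx, Subtype.ext (hgl x hx)⟩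
        | one => exact one_mem _
        | mul a b ha hb iha ihb => exact mul_mem iha ihb
        | inv a ha iha => exact inv_mem iha }
  obtain ⟨h1, h2⟩ := Cert.index_le M V
  exact hb.step hK ⟨h1, h2.index_ne_zero⟩

theorem CardLE.zpowers {Q : Type*} [Group Q] {a : Q} {n : ℕ} (hn : 0 < n) (h : a ^ n = 1) :
    CardLE (Subgroup.zpowers a) n := by
  have hd : orderOf a ∣ n := orderOf_dvd_of_pow_eq_one h
  have hpos : 0 < orderOf a := Nat.pos_of_dvd_of_pos hd hn
  exact ⟨by rw [Nat.card_zpowers]; omega, by rw [Nat.card_zpowers]; exact Nat.le_of_dvd hn hd⟩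

end CfsgLib.Spor.J4
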