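import Cfsg.Agent.Lib.PresCert.Range

/-!
Assembling the fact checks of a certificate from segments.
-/

set_option autoImplicit false

namespace CfsgLib.PresCert.Cert

/-- the segment of justifications is valid from `k` and ends at `k'` -/
def FactSeg (C : Cert) (k k' : Nat) (l : List Just) : Prop :=
  C.okFacts k l = true ∧ k + l.length = k'

theorem okFacts_append {C : Cert} : ∀ (a b : List Just) (k : Nat), C.okFacts k a = true →
    C.okFacts (k + a.length) b = true → C.okFacts k (a ++ b) = true
  | [], b, k, _, h => by simpa using h
  | j :: a, b, k, h1, h2 => by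
    simp only [okFacts, Bool.and_eq_true] at h1
    simp only [List.cons_append, okFacts, Bool.and_eq_true]
    refine ⟨h1.1, okFacts_append a b (k + 1) h1.2 ?_⟩
    rw [List.length_cons] at h2
    rwa [show k + 1 + a.length = k + (a.length + 1) by omega]

theorem FactSeg.join {C : Cert} {k m n : Nat} {a b : List Just} (h : FactSeg C k m a)
    (h' : FactSeg C m n b) : FactSeg C k n (a ++ b) :=
  ⟨okFacts_append a b k h.1 (h.2.symm ▸ h'.1), by
    rw [List.length_append, ← h'.2, ← h.2]; omega⟩

end CfsgLib.PresCert.Cert
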