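import Cfsg.Agent.Lib.Spor.J4.Index.Cover
import Cfsg.Agent.Lib.Spor.J4.Order.QGroup

/-!
The presented J₄ is finite of order at most 86775571046077562880; the orbits of `⟨x, y⟩` on the
cosets of `2¹¹:M₂₄`.
-/

set_option autoImplicit false

namespace CfsgLib.Spor.J4

open CfsgLib.PresCert CfsgLib.Spor Cfsg CfsgLib.Spor.J4.Index
open scoped Pointwise

/-- the presented group -/
local notation "J" => Cfsg.Spor.J4

/-- The subgroup of the index statement, in the form used by the statements. -/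
theorem subH_eq_map : subH = (Subgroup.closure ({Cfsg.Spor.J4.x, Cfsg.Spor.J4.y,
    (Cfsg.Spor.J4.y * ((Cfsg.Spor.J4.y * Cfsg.Spor.J4.x) ^ 4 * Cfsg.Spor.J4.y⁻¹ *
      Cfsg.Spor.J4.x)⁻¹ * Cfsg.Spor.J4.t * ((Cfsg.Spor.J4.y * Cfsg.Spor.J4.x) ^ 4 *
        Cfsg.Spor.J4.y⁻¹ * Cfsg.Spor.J4.x)) ^ 3} : Set (FreeGroup Cfsg.Spor.J4.Gen))).map
    (PresentedGroup.mk (Cfsg.Spor.coxRelators Cfsg.Spor.J4.edges ∪
      {r | r ∈ Cfsg.Spor.J4.extra})) := by
  rw [MonoidHom.map_closure, Set.image_insert_eq, Set.image_pair, subH]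
  have e : gs = PresentedGroup.mk (Cfsg.Spor.coxRelators Cfsg.Spor.J4.edges ∪
      {r | r ∈ Cfsg.Spor.J4.extra})
      ((Cfsg.Spor.J4.y * ((Cfsg.Spor.J4.y * Cfsg.Spor.J4.x) ^ 4 * Cfsg.Spor.J4.y⁻¹ *
        Cfsg.Spor.J4.x)⁻¹ * Cfsg.Spor.J4.t * ((Cfsg.Spor.J4.y * Cfsg.Spor.J4.x) ^ 4 *
          Cfsg.Spor.J4.y⁻¹ * Cfsg.Spor.J4.x)) ^ 3) := by
    have hw : wJ wH = (gy * gx) ^ 4 * gy⁻¹ * gx := by
      simp [wJ, wH, letterVal, pow_succ, mul_assoc, List.replicate_succ]
    rw [gs, hw]
    simp only [gx, gy, gt, ← map_pow, ← map_mul, ← map_inv, mul_assoc]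
  rw [e]
  rfl

/-- The presented group is finite of order at most 86775571046077562880. -/
theorem cardLE_univ : CardLE (⊤ : Subgroup J) 86775571046077562880 := by
  obtain ⟨h1, h2⟩ := index_le
  have := Order.cardLE_subH.step (L := (⊤ : Subgroup J)) le_top
    (n := 173067389) ⟨by rw [Subgroup.relIndex_top_right]; exact h1,
      by rw [Subgroup.relIndex_top_right]; exact h2.index_ne_zero⟩
  rwa [show 173067389 * (2 ^ 11 * 244823040) = 86775571046077562880 by norm_num] at this

theorem finite : Finite J := by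
  have h := cardLE_univ.1
  rw [Subgroup.card_top] at h
  exact Nat.finite_of_card_ne_zero h

theorem natCard_le : Nat.card J ≤ 86775571046077562880 := by
  simpa using cardLE_univ.2

/-- the twenty orbit representatives -/
noncomputable def pts (i : Fin 20) : Pts := node i.val

/-- bounds for the orbit sizes -/
def orbitBound (i : Fin 20) : ℕ := 244823040 / nodeSizes.getD i.val 0

theorem orbitBound_values : List.ofFn orbitBound = [1, 3795, 5100480, 318780, 81607680, 40803840,
    212520, 7650720, 2550240, 15301440, 12241152, 478170, 1912680, 1275120, 2550240, 967680,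
    53130, 26565, 1771, 11385] := by decide +kernel

/-- every coset is in one of the twenty orbits of `⟨x, y⟩` -/
theorem pts_cover (p : Pts) : ∃ i, ∃ m ∈ Subgroup.closure {gx, gy}, p = m • pts i := by
  obtain ⟨⟨i, z⟩, rfl⟩ := allMap_surjective p
  induction z using QuotientGroup.induction_on with
  | H g => exact ⟨i, psi g, M24Iso.range_toHom m24Rels ▸ ⟨g, rfl⟩, rfl⟩

/-- the orbit sizes are at most the tabulated numbers -/
theorem orbit_le (i : Fin 20) :
    Nat.card (MulAction.orbit (Subgroup.closure {gx, gy} : Subgroup J) (pts i)) ≤ orbitBound i := by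
  have : Finite (M24 ⧸ stabNode i.val) := inferInstance
  let f : M24 ⧸ stabNode i.val → MulAction.orbit (Subgroup.closure {gx, gy} : Subgroup J) (pts i) :=
    fun z => ⟨orbMap i.val z, by
      induction z using QuotientGroup.induction_on with
      | H g => exact ⟨⟨psi g, M24Iso.range_toHom m24Rels ▸ ⟨g, rfl⟩⟩, rfl⟩⟩
  have hf : Function.Surjective f := by
    rintro ⟨_, ⟨m, hm⟩, rfl⟩
    obtain ⟨g, rfl⟩ : m ∈ psi.range := (M24Iso.range_toHom m24Rels).symm ▸ hm
    exact ⟨(g : M24 ⧸ stabNode i.val), rfl⟩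
  refine (Nat.card_le_card_of_surjective f hf).trans ?_
  have hpos : 0 < nodeSizes.getD i.val 0 := by
    have : ∀ j < 20, 0 < nodeSizes.getD j 0 := by decide
    exact this _ i.isLt
  rw [orbitBound, Nat.le_div_iff_mul_le hpos, ← natCard_M24, ← Subgroup.index_eq_card]
  refine (Nat.mul_le_mul_left _ (nodeSizes_le i.isLt)).trans (le_of_eq ?_)
  rw [mul_comm, Subgroup.card_mul_index]

end CfsgLib.Spor.J4
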