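import Cfsg.Agent.Lib.Spor.M24Order

/-!
Two generating permutations of `Cfsg.M24` satisfying the seven relators.
-/

set_option autoImplicit false

namespace CfsgLib.Spor.J4

open Cfsg

/-- packed first generator -/
def mAa : ℕ := 813433314355403722533765768344046890
/-- packed second generator -/
def mBa : ℕ := 361075360146782043921373742663010924
/-- packed inverse of the second generator -/
def mBi : ℕ := 568736556438842220387175331974908143

/-- the involution -/
def mA : Equiv.Perm GolayPt where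
  toFun p := pt (getP mAa (idx p))
  invFun p := pt (getP mAa (idx p))
  left_inv := by decide +kernel
  right_inv := by decide +kernel

/-- the element of order three -/
def mB : Equiv.Perm GolayPt where
  toFun p := pt (getP mBa (idx p))
  invFun p := pt (getP mBi (idx p))
  left_inv := by decide +kernel
  right_inv := by decide +kernel

theorem rep_mA : Rep mA mAa := by decide +kernel

theorem rep_mB : Rep mB mBa := by decide +kernel

theorem rep_mBi : Rep mB⁻¹ mBi := by decide +kernel

theorem mA_mem : mA ∈ M24 := rep_mA.mem_M24 (by decide +kernel)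

theorem mB_mem : mB ∈ M24 := rep_mB.mem_M24 (by decide +kernel)

/-- letters as permutations -/
def mLet : ℕ → Equiv.Perm GolayPt
  | 0 => mA
  | 1 => mA
  | 2 => mB
  | _ => mB⁻¹

/-- letters as packed permutations -/
def pLet : ℕ → ℕ
  | 0 => mAa
  | 1 => mAa
  | 2 => mBa
  | _ => mBi

/-- packed value of a word -/
def pWord : List ℕ → ℕ
  | [] => packL (List.range 24)
  | l :: w => compP (pLet l) (pWord w)

theorem rep_word : ∀ w : List ℕ, Rep (w.map mLet).prod (pWord w)
  | [] => rep_one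
  | l :: w => by
    have h : Rep (mLet l) (pLet l) := by
      rcases l with _ | _ | _ | _ <;> first | exact rep_mA | exact rep_mB | exact rep_mBi
    rw [List.map_cons, List.prod_cons]
    exact h.mul (rep_word w)

theorem mLet_mem (l : ℕ) : mLet l ∈ Subgroup.closure {mA, mB} := by
  rcases l with _ | _ | _ | _
  · exact Subgroup.subset_closure (Or.inl rfl)
  · exact Subgroup.subset_closure (Or.inl rfl)
  · exact Subgroup.subset_closure (Or.inr rfl)
  · exact inv_mem (Subgroup.subset_closure (Or.inr rfl))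

theorem word_mem (w : List ℕ) : (w.map mLet).prod ∈ Subgroup.closure {mA, mB} :=
  Subgroup.list_prod_mem _ fun q hq => by
    obtain ⟨l, -, rfl⟩ := List.mem_map.1 hq
    exact mLet_mem l

theorem mem_of_word {σ : Equiv.Perm GolayPt} {a : ℕ} (h : Rep σ a) (w : List ℕ)
    (hw : pWord w = a) : σ ∈ Subgroup.closure {mA, mB} :=
  (h.inj (hw ▸ rep_word w) : σ = _) ▸ word_mem w

/-- The two permutations generate `Cfsg.M24`. -/
theorem closure_mAB : Subgroup.closure {mA, mB} = M24 := by
  refine le_antisymm ?_ ?_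
  · rw [Subgroup.closure_le]
    rintro _ (rfl | rfl)
    exacts [mA_mem, mB_mem]
  · rw [← m24Gen_eq, m24Gen, Subgroup.closure_le]
    rintro _ (rfl | rfl | rfl)
    · exact mem_of_word rep_gT [0, 3, 0, 2, 0, 3, 0, 3, 0, 3, 0, 2, 0, 2, 0, 2, 0, 2, 0, 3, 0, 3,
        0, 3, 0, 2, 0, 3, 0, 3, 0, 2, 0, 3, 0, 2, 0, 3, 0, 2, 0, 2, 0, 2, 0, 2, 0, 3, 0, 3, 0]
        (by decide +kernel)
    · exact mem_of_word rep_projInv [2, 0, 3, 0, 2, 0, 2, 0, 2, 0, 3, 0, 3, 0, 2, 0, 2, 0, 2, 0, 3,
        0, 3, 0, 2, 0, 3, 0, 3, 0, 3, 0, 2, 0, 3, 0, 2, 0, 3, 0, 3, 0, 2, 0, 2, 0, 3, 0, 3, 0, 3]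
        (by decide +kernel)
    · exact mem_of_word rep_cubeTwist [0, 2, 0, 2, 0, 3, 0, 3, 0, 2, 0, 2, 0, 2, 0, 3, 0, 2, 0, 3,
        0, 2, 0, 3, 0, 2, 0, 3, 0, 3, 0, 3, 0, 2, 0, 3, 0, 3, 0, 3, 0, 2, 0, 2, 0, 2, 0, 2, 0, 3,
        0, 3, 0, 2, 0]
        (by decide +kernel)

theorem relator_one (w : List ℕ) (hw : pWord w = packL (List.range 24)) :
    (w.map mLet).prod = 1 :=
  (rep_word w).inj (hw ▸ rep_one)

end CfsgLib.Spor.J4
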