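import Cfsg.Agent.Lib.Spor.J4.Index.Base
import Cfsg.Agent.Lib.Spor.J4Rep.Rep
import Cfsg.Agent.Lib.Spor.MathieuSimple

/-!
`⟨x, y⟩` in the presented J₄ is a copy of M₂₄.
-/

set_option autoImplicit false

namespace CfsgLib.Spor.J4

open CfsgLib.Spor CfsgLib.Spor.J4.Index

/-- the presented group -/
local notation "J" => Cfsg.Spor.J4

theorem gx_ne_one : gx ≠ 1 := by
  have h : J4Rep.wval [0] ≠ J4Rep.wval [] := fun e => J4Rep.rep_x_ne_one (congrArg _ e)
  rw [J4Rep.wval_nil] at h
  have e : J4Rep.wval [0] = gx := by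
    simp only [J4Rep.wval, J4Rep.wordF, List.map_cons, List.map_nil, List.prod_cons, List.prod_nil,
      mul_one, gx]
    rfl
  rwa [e] at h

theorem psi_injective : Function.Injective psi := by
  have := isSimpleGroup_M24
  rcases (inferInstance : psi.ker.Normal).eq_bot_or_eq_top with h | h
  · exact (MonoidHom.ker_eq_bot_iff _).1 h
  · refine absurd ?_ gx_ne_one
    have e : psi M24Iso.ga = 1 := MonoidHom.mem_ker.1 (h ▸ Subgroup.mem_top M24Iso.ga)
    rwa [psi, M24Iso.toHom_ga] at e

/-- `⟨x, y⟩` is a copy of M₂₄. -/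
noncomputable def closureEquiv :
    (Subgroup.closure {gx, gy} : Subgroup J) ≃* Cfsg.M24 :=
  ((MonoidHom.ofInjective psi_injective).trans
    (MulEquiv.subgroupCongr (M24Iso.range_toHom m24Rels))).symm

end CfsgLib.Spor.J4
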