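import Cfsg.Agent.Lib.Spor.J4.FactsRange
import Cfsg.Agent.Lib.Spor.J4.MAData

/-!
Checking facts of the certificate (generated).
-/

set_option linter.all false

namespace CfsgLib.Spor.J4.MA

open CfsgLib.PresCert

theorem seg_168 : Cert.FactSeg cert 25200 25350 just168 :=
  ⟨by decide +kernel, by decide +kernel⟩

theorem seg_169 : Cert.FactSeg cert 25350 25500 just169 :=
  ⟨by decide +kernel, by decide +kernel⟩

theorem seg_170 : Cert.FactSeg cert 25500 25650 just170 :=
  ⟨by decide +kernel, by decide +kernel⟩

theorem seg_171 : Cert.FactSeg cert 25650 25800 just171 :=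
  ⟨by decide +kernel, by decide +kernel⟩

theorem seg_172 : Cert.FactSeg cert 25800 25950 just172 :=
  ⟨by decide +kernel, by decide +kernel⟩

theorem seg_173 : Cert.FactSeg cert 25950 26100 just173 :=
  ⟨by decide +kernel, by decide +kernel⟩

theorem seg_174 : Cert.FactSeg cert 26100 26250 just174 :=
  ⟨by decide +kernel, by decide +kernel⟩

theorem seg_175 : Cert.FactSeg cert 26250 26400 just175 :=
  ⟨by decide +kernel, by decide +kernel⟩

theorem seg_176 : Cert.FactSeg cert 26400 26550 just176 :=
  ⟨by decide +kernel, by decide +kernel⟩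

theorem seg_177 : Cert.FactSeg cert 26550 26700 just177 :=
  ⟨by decide +kernel, by decide +kernel⟩

theorem seg_178 : Cert.FactSeg cert 26700 26850 just178 :=
  ⟨by decide +kernel, by decide +kernel⟩

theorem seg_179 : Cert.FactSeg cert 26850 27000 just179 :=
  ⟨by decide +kernel, by decide +kernel⟩

end CfsgLib.Spor.J4.MA
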