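import Cfsg.Agent.Lib.Spor.J4.PresData
import Cfsg.Agent.Lib.Spor.J4.CertStep

/-!
The Schreier rewriting data is valid: a subgroup of index at most 24 satisfying the relations of
the five kept generators.
-/

set_option autoImplicit false

namespace CfsgLib.Spor.J4.Pres

open CfsgLib.Spor.ON CfsgLib.PresCert

/-- a letter of the kept subgroup as a word -/
noncomputable def kword (l : Nat) : List Nat :=
  let w := known.getD (Nat.shiftRight l (nat_lit 1)) []
  bif Nat.beq (Nat.land l (nat_lit 1)) (nat_lit 0) then w else rv alph w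

/-- expand a word in the Schreier generators -/
noncomputable def expW (w : List Nat) : List Nat := w.flatMap kword

/-- the eliminations are justified -/
noncomputable def okElim : Nat → List (List Nat × List (Nat × Nat × Nat × Bool)) → Bool
  | _, [] => true
  | k, e :: es =>
    (e.1.all fun l => Nat.blt l (2 * k)) &&
      (okProd alph (known.getD k [] ++ rv alph (expW e.1)) e.2 && okElim (k + 1) es)

theorem known_ok : (known.all fun w => w.all fun x => Nat.blt x alph.g) = true := by decide +kernel

theorem trans_ok : (trans.all fun w => w.all fun x => Nat.blt x alph.g) = true := by decide +kernel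

set_option maxRecDepth 200000 in
theorem elim_ok : okElim 5 elimItems = true := by decide +kernel

theorem elim_length : 5 + elimItems.length = known.length := by decide +kernel

set_option maxRecDepth 200000 in
theorem rel_ok : (relItems.all fun e => (e.1.all fun l => Nat.blt l 10) &&
    okProd alph (expW e.1) e.2) = true := by decide +kernel

/-- one line of the rewriting table -/
noncomputable def okRow (s : Nat) : Bool :=
  let e := table.getD s ([], 24)
  let g := bif Nat.beq (Nat.land s (nat_lit 1)) (nat_lit 0) then nat_lit 0 else nat_lit 2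
  Nat.blt e.2 24 && (e.1.all fun l => Nat.blt l (2 * known.length)) &&
    Alph.sameWord (alph.reduce (trans.getD (Nat.shiftRight s (nat_lit 1)) [] ++ [g]))
      (alph.reduce (expW e.1 ++ trans.getD e.2 []))

theorem table_ok : allBelow 48 okRow = true := by decide +kernel

theorem trans_head : trans.getD 0 [0] = [] := by decide +kernel

variable {Q : Type*} [Group Q] (M : Interp alph Q)

/-- value of a letter of the kept subgroup -/
noncomputable def kval (l : Nat) : Q := M.wval (kword l)

theorem getD_lt {ls : List (List Nat)}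
    (h : (ls.all fun w => w.all fun x => Nat.blt x alph.g) = true) (i : Nat) :
    ∀ y ∈ ls.getD i [], y < alph.g := by
  intro y hy
  rw [List.getD_eq_getElem?_getD] at hy
  cases hi : ls[i]? with
  | none => simp [hi] at hy
  | some w =>
    simp only [hi, Option.getD_some] at hy
    simp only [List.all_eq_true, Nat.blt_eq] at h
    exact h w (List.mem_of_getElem? hi) y hy

include M in
theorem kword_lt (l : Nat) : ∀ y ∈ kword l, y < alph.g := by
  simp only [kword]
  cases Nat.beq (Nat.land l 1) 0 with
  | true => exact getD_lt known_ok _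
  | false => exact rv_lt M (getD_lt known_ok _)

include M in
theorem expW_lt : ∀ w : List Nat, ∀ y ∈ expW w, y < alph.g := by
  intro w y hy
  obtain ⟨l, -, hl⟩ := List.mem_flatMap.1 hy
  exact kword_lt M l y hl

theorem wval_expW (w : List Nat) : M.wval (expW w) = (w.map (kval M)).prod := by
  induction w with
  | nil => simp [expW, Interp.wval]
  | cons l w ih =>
    rw [expW, List.flatMap_cons, M.wval_append, ← expW, ih]
    simp [kval]

theorem kword_even (i : Nat) : kword (2 * i) = known.getD i [] := by
  have h1 : Nat.land (2 * i) 1 = 0 := by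
    show (2 * i) &&& 1 = 0
    rw [Nat.and_one_is_mod]; omega
  have h2 : Nat.shiftRight (2 * i) 1 = i := by
    show (2 * i) >>> 1 = i
    rw [Nat.shiftRight_eq_div_pow]; omega
  unfold kword
  rw [h1, h2]
  rfl

theorem kword_odd (i : Nat) : kword (2 * i + 1) = rv alph (known.getD i []) := by
  have h1 : Nat.land (2 * i + 1) 1 = 1 := by
    show (2 * i + 1) &&& 1 = 1
    rw [Nat.and_one_is_mod]; omega
  have h2 : Nat.shiftRight (2 * i + 1) 1 = i := by
    show (2 * i + 1) >>> 1 = i
    rw [Nat.shiftRight_eq_div_pow]; omega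
  unfold kword
  rw [h1, h2]
  rfl

theorem kval_odd (i : Nat) : kval M (2 * i + 1) = (kval M (2 * i))⁻¹ := by
  rw [kval, kval, kword_even, kword_odd, wval_rv M (getD_lt known_ok _)]

theorem kval_inv (l : Nat) (hl : l < 10) :
    (l ^^^ 1) < 10 ∧ kval M (l ^^^ 1) = (kval M l)⁻¹ := by
  obtain ⟨i, rfl | rfl⟩ := Nat.even_or_odd' l
  · have e : (2 * i) ^^^ 1 = 2 * i + 1 := by
      have : i < 5 := by omega
      interval_cases i <;> rfl
    exact ⟨by omega, by rw [e, kval_odd]⟩
  · have e : (2 * i + 1) ^^^ 1 = 2 * i := by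
      have : i < 5 := by omega
      interval_cases i <;> rfl
    exact ⟨by omega, by rw [e, kval_odd, inv_inv]⟩

/-- the kept subgroup -/
noncomputable def kept : Subgroup Q := genBy 10 (kval M)

theorem kval_mem_of_known {k : Nat} (h : ∀ i < k, kval M (2 * i) ∈ kept M) {l : Nat}
    (hl : l < 2 * k) : kval M l ∈ kept M := by
  obtain ⟨i, rfl | rfl⟩ := Nat.even_or_odd' l
  · exact h i (by omega)
  · rw [kval_odd]; exact inv_mem (h i (by omega))

theorem elim_mem : ∀ (es : List (List Nat × List (Nat × Nat × Nat × Bool))) (k : Nat),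
    okElim k es = true → (∀ i < k, kval M (2 * i) ∈ kept M) →
      ∀ i < k + es.length, kval M (2 * i) ∈ kept M
  | [], k, _, h, i, hi => h i (by simpa using hi)
  | e :: es, k, hok, h, i, hi => by
    simp only [okElim, Bool.and_eq_true, List.all_eq_true, Nat.blt_eq] at hok
    obtain ⟨hl, hp, hrest⟩ := hok
    refine elim_mem es (k + 1) hrest (fun j hj => ?_) i (by simp at hi ⊢; omega)
    rcases Nat.lt_succ_iff_lt_or_eq.1 hj with hj | rfl
    · exact h j hj
    · have h1 := (eq_one_of_okProd M hp).2
      rw [M.wval_append, wval_rv M (expW_lt M _), mul_inv_eq_one, wval_expW] at h1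
      rw [kval, kword_even, h1]
      refine Subgroup.list_prod_mem _ fun q hq => ?_
      obtain ⟨l, hl', rfl⟩ := List.mem_map.1 hq
      exact kval_mem_of_known M h (hl l hl')

theorem known_mem {l : Nat} (hl : l < 2 * known.length) : kval M l ∈ kept M := by
  refine kval_mem_of_known M (k := known.length) (fun i hi => ?_) hl
  rw [← elim_length] at hi
  exact elim_mem M elimItems 5 elim_ok
    (fun j hj => mem_genBy _ (by omega : 2 * j < 10)) i hi

/-- value of a representative -/
noncomputable def tval (c : Nat) : Q := M.wval (trans.getD c [])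

theorem tval_zero : tval M 0 = 1 := by
  have h : trans.getD 0 [] = [] := by decide +kernel
  rw [tval, h]; rfl

theorem step {s : Nat} (hs : s < 48) : ∃ d < 24,
    tval M (s / 2) * M.gen (if s % 2 = 0 then 0 else 2) * (tval M d)⁻¹ ∈ kept M := by
  have h := allBelow_spec table_ok s hs
  simp only [okRow, Bool.and_eq_true, List.all_eq_true, Nat.blt_eq] at h
  obtain ⟨⟨h1, h2⟩, h3⟩ := h
  refine ⟨_, h1, ?_⟩
  set g := bif Nat.beq (Nat.land s 1) 0 then (0 : Nat) else 2 with hg
  have hg' : g = if s % 2 = 0 then 0 else 2 := by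
    have e : Nat.land s 1 = s % 2 := Nat.and_one_is_mod s
    rw [hg, e]
    rcases Nat.mod_two_eq_zero_or_one s with h | h <;> rw [h] <;> rfl
  have hglt : g < alph.g := by
    show g < 4
    rw [hg']; split <;> omega
  have hs2 : Nat.shiftRight s 1 = s / 2 := by
    show s >>> 1 = s / 2
    rw [Nat.shiftRight_eq_div_pow, pow_one]
  have hu : ∀ y ∈ trans.getD (Nat.shiftRight s 1) [] ++ [g], y < alph.g := by
    intro y hy
    rcases List.mem_append.1 hy with hy | hy
    · exact getD_lt trans_ok _ y hy
    · rw [List.mem_singleton] at hy; exact hy ▸ hglt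
  have hw : ∀ y ∈ expW (table.getD s ([], 24)).1 ++ trans.getD (table.getD s ([], 24)).2 [],
      y < alph.g := by
    intro y hy
    rcases List.mem_append.1 hy with hy | hy
    · exact expW_lt M _ y hy
    · exact getD_lt trans_ok _ y hy
  have e := M.wval_eq_of_reduce hu hw (sameWord_eq h3)
  rw [M.wval_append, M.wval_append, wval_expW, M.wval_cons, hs2, hg'] at e
  simp only [show M.wval [] = 1 from rfl, mul_one] at e
  simp only [tval]
  rw [e, mul_inv_cancel_right]
  refine Subgroup.list_prod_mem _ fun q hq => ?_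
  obtain ⟨l, hl, rfl⟩ := List.mem_map.1 hq
  exact known_mem M (h2 l hl)

/-- The kept subgroup has index at most 24 in the subgroup generated by the letters. -/
theorem kept_relIndex (ha : M.gen 0 * M.gen 0 = 1) (hb : M.gen 2 * M.gen 2 * M.gen 2 = 1)
    (htop : Subgroup.closure {M.gen 0, M.gen 2} = (⊤ : Subgroup Q)) :
    (kept M).index ≤ 24 ∧ (kept M).index ≠ 0 := by
  have gx : ∀ c < 24, ∃ d < 24, tval M c * M.gen 0 * (tval M d)⁻¹ ∈ kept M := fun c hc => by
    obtain ⟨d, hd, h⟩ := step M (s := 2 * c) (by omega)
    exact ⟨d, hd, by simpa using h⟩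
  have gy : ∀ c < 24, ∃ d < 24, tval M c * M.gen 2 * (tval M d)⁻¹ ∈ kept M := fun c hc => by
    obtain ⟨d, hd, h⟩ := step M (s := 2 * c + 1) (by omega)
    exact ⟨d, hd, by simpa [show (2 * c + 1) / 2 = c by omega] using h⟩
  have trans' : ∀ {c p d q e}, tval M c * p * (tval M d)⁻¹ ∈ kept M →
      tval M d * q * (tval M e)⁻¹ ∈ kept M → tval M c * (p * q) * (tval M e)⁻¹ ∈ kept M := by
    intro c p d q e h h'
    simpa [mul_assoc] using mul_mem h h'
  have key : ∀ q : Q, ∀ c < 24, ∃ d < 24, tval M c * q * (tval M d)⁻¹ ∈ kept M := by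
    intro q
    have hq : q ∈ Subgroup.closure {M.gen 0, M.gen 2} := by rw [htop]; trivial
    induction hq using Subgroup.closure_induction'' with
    | mem x hx => rcases hx with rfl | rfl <;> assumption
    | inv_mem x hx =>
      rcases hx with rfl | rfl
      · rwa [inv_eq_of_mul_eq_one_right ha]
      · intro c hc
        obtain ⟨d, hd, h⟩ := gy c hc
        obtain ⟨e, he, h'⟩ := gy d hd
        refine ⟨e, he, ?_⟩
        rw [inv_eq_of_mul_eq_one_left hb]
        exact trans' h h'
    | one => exact fun c hc => ⟨c, hc, by simp⟩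
    | mul x y _ _ hx hy =>
      intro c hc
      obtain ⟨d, hd, h⟩ := hx c hc
      obtain ⟨e, he, h'⟩ := hy d hd
      exact ⟨e, he, trans' h h'⟩
  let f : Fin 24 → Q ⧸ kept M := fun c => ((tval M c)⁻¹ : Q)
  have hf : Function.Surjective f := by
    intro y
    obtain ⟨q, rfl⟩ := QuotientGroup.mk_surjective y
    obtain ⟨d, hd, h⟩ := key q⁻¹ 0 (by omega)
    rw [tval_zero, one_mul] at h
    exact ⟨⟨d, hd⟩, QuotientGroup.eq.2 (by simpa using inv_mem h)⟩
  have : Finite (Q ⧸ kept M) := Finite.of_surjective f hf
  refine ⟨?_, (Subgroup.finiteIndex_of_finite_quotient).index_ne_zero⟩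
  rw [Subgroup.index_eq_card]
  simpa using Nat.card_le_card_of_surjective f hf

theorem rel_one : ∀ e ∈ relItems, (∀ l ∈ e.1, l < 10) ∧ (e.1.map (kval M)).prod = 1 := by
  intro e he
  have h := List.all_eq_true.1 rel_ok e he
  simp only [Bool.and_eq_true, List.all_eq_true, Nat.blt_eq] at h
  exact ⟨h.1, by rw [← wval_expW]; exact (eq_one_of_okProd M h.2).2⟩

end CfsgLib.Spor.J4.Pres
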