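import Cfsg.Agent.Lib.Spor.ON.Facts

/-!
Checking that a word is a product of conjugates of relators and their inverses.
-/

set_option autoImplicit false

namespace CfsgLib.Spor.J4

open CfsgLib.PresCert CfsgLib.Spor.ON

/-- inverse of a word -/
noncomputable def rv (A : Alph) (w : List Nat) : List Nat := (w.map A.iv).reverse

/-- unpack a word of two-bit letters -/
noncomputable def dec : Nat → Nat → List Nat
  | 0, _ => []
  | n + 1, c => Nat.land c (nat_lit 3) :: dec n (Nat.shiftRight c (nat_lit 2))

/-- one conjugate of a relator: length and code of the conjugating word, relator, sign -/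
noncomputable def termWord (A : Alph) (t : Nat × Nat × Nat × Bool) : List Nat :=
  let u := dec t.1 t.2.1
  let r := A.rels.getD t.2.2.1 []
  u ++ ((bif t.2.2.2 then r else rv A r) ++ rv A u)

/-- the word is a product of the given conjugates -/
noncomputable def okProd (A : Alph) (lhs : List Nat) (ts : List (Nat × Nat × Nat × Bool)) : Bool :=
  lhs.all (fun x => Nat.blt x A.g) &&
    (ts.all (fun t => (dec t.1 t.2.1).all (fun x => Nat.blt x A.g) && Nat.blt t.2.2.1 A.rels.length) &&
      Alph.sameWord (A.reduce lhs) (A.reduce (ts.flatMap (termWord A))))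

variable {A : Alph} {Q : Type*} [Group Q] (M : Interp A Q)

include M in
theorem rv_lt {w : List Nat} (h : ∀ y ∈ w, y < A.g) : ∀ y ∈ rv A w, y < A.g := by
  intro y hy
  simp only [rv, List.mem_reverse, List.mem_map] at hy
  obtain ⟨z, hz, rfl⟩ := hy
  exact (M.gen_inv z (h z hz)).1

theorem wval_rv {w : List Nat} (h : ∀ y ∈ w, y < A.g) : M.wval (rv A w) = (M.wval w)⁻¹ := by
  induction w with
  | nil => simp [rv, Interp.wval]
  | cons x w ih =>
    have e : rv A (x :: w) = rv A w ++ [A.iv x] := by simp [rv]
    rw [e, M.wval_append, ih fun y hy => h y (List.mem_cons_of_mem _ hy)]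
    simp [Interp.wval, (M.gen_inv x (h x (List.mem_cons_self ..))).2, mul_inv_rev]

/-- A product of conjugates of relators evaluates to one. -/
theorem eq_one_of_okProd {lhs : List Nat} {ts : List (Nat × Nat × Nat × Bool)}
    (h : okProd A lhs ts = true) : (∀ y ∈ lhs, y < A.g) ∧ M.wval lhs = 1 := by
  simp only [okProd, Bool.and_eq_true, List.all_eq_true, Nat.blt_eq] at h
  obtain ⟨hl, ht, he⟩ := h
  have key : (∀ y ∈ ts.flatMap (termWord A), y < A.g) ∧ M.wval (ts.flatMap (termWord A)) = 1 := by
    clear he
    induction ts with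
    | nil => simp [Interp.wval]
    | cons t ts ih =>
      obtain ⟨hu, hr⟩ := ht t (List.mem_cons_self ..)
      obtain ⟨ih1, ih2⟩ := ih fun s hs => ht s (List.mem_cons_of_mem _ hs)
      obtain ⟨hw1, hw2⟩ := M.rels_getD hr
      have hmid : ∀ (b : Bool),
          (∀ y ∈ (bif b then A.rels.getD t.2.2.1 [] else rv A (A.rels.getD t.2.2.1 [])), y < A.g) ∧
          M.wval (bif b then A.rels.getD t.2.2.1 [] else rv A (A.rels.getD t.2.2.1 [])) = 1 := by
        intro b
        cases b with
        | true => exact ⟨hw1, hw2⟩
        | false => exact ⟨rv_lt M hw1, by rw [cond_false, wval_rv M hw1, hw2, inv_one]⟩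
      obtain ⟨hm1, hm2⟩ := hmid t.2.2.2
      refine ⟨fun y hy => ?_, ?_⟩
      · simp only [List.flatMap_cons, termWord, List.mem_append] at hy
        rcases hy with (hy | hy | hy) | hy
        · exact hu y hy
        · exact hm1 y hy
        · exact rv_lt M hu y hy
        · exact ih1 y hy
      · simp only [List.flatMap_cons, termWord, M.wval_append, wval_rv M hu, hm2, ih2]
        group
  refine ⟨hl, ?_⟩
  rw [M.wval_eq_of_reduce hl key.1 (sameWord_eq he), key.2]

end CfsgLib.Spor.J4
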